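import Mathlib.Algebra.Lie.UniversalEnveloping
import Mathlib.LinearAlgebra.Finsupp.LinearCombination
import Mathlib.LinearAlgebra.Finsupp.Supported
import Mathlib.LinearAlgebra.Basis.Basic
import Mathlib.LinearAlgebra.Basis.Bilinear
import Mathlib.Data.List.Sort
import Mathlib.Tactic.Abel
import Mathlib.Tactic.NoncommRing

universe u v w

namespace Groth.Agent.PBW

attribute [local instance] LieRing.ofAssociativeRing

variable {R : Type u} [CommRing R] {L : Type v} [LieRing L] [LieAlgebra R L]
  {ι : Type w} [LinearOrder ι] (b : Module.Basis ι R L)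

/-- ordered monomials -/
abbrev V (R : Type u) [CommRing R] (ι : Type w) [LinearOrder ι] := {l : List ι // l.SortedLE} →₀ R

noncomputable def z (l : List ι) : V R ι :=
  open Classical in if h : l.SortedLE then Finsupp.single ⟨l, h⟩ 1 else 0

theorem z_eq {l : List ι} (h : l.SortedLE) : (z l : V R ι) = Finsupp.single ⟨l, h⟩ 1 := by simp [z, h]

/-- sorted insertion -/
def ins (i : ι) (l : List ι) : List ι := l.orderedInsert (· ≤ ·) i

theorem sorted_ins {i : ι} {l : List ι} (h : l.SortedLE) : (ins i l).SortedLE :=
  List.sortedLE_iff_pairwise.2 (List.Pairwise.orderedInsert i l (List.sortedLE_iff_pairwise.1 h))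

theorem sorted_tail {j : ι} {m : List ι} (h : (j :: m).SortedLE) : m.SortedLE :=
  List.sortedLE_iff_pairwise.2 (List.pairwise_cons.1 (List.sortedLE_iff_pairwise.1 h)).2

theorem le_of_sorted {j : ι} {m : List ι} (h : (j :: m).SortedLE) : ∀ x ∈ m, j ≤ x :=
  (List.pairwise_cons.1 (List.sortedLE_iff_pairwise.1 h)).1

theorem sorted_cons {i : ι} {l : List ι} (h : l.SortedLE) (hi : ∀ x ∈ l, i ≤ x) : (i :: l).SortedLE :=
  List.sortedLE_iff_pairwise.2 (List.pairwise_cons.2 ⟨hi, List.sortedLE_iff_pairwise.1 h⟩)

theorem length_ins (i : ι) (l : List ι) : (ins i l).length = l.length + 1 := List.orderedInsert_length _ _ _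

theorem le_ins {j i : ι} {m : List ι} (hji : j ≤ i) (h : ∀ x ∈ m, j ≤ x) : ∀ x ∈ ins i m, j ≤ x := by
  intro x hx
  rcases (List.mem_orderedInsert _).1 hx with rfl | hx
  exacts [hji, h x hx]

noncomputable def T (φ : ι → List ι → V R ι) : L →ₗ[R] V R ι →ₗ[R] V R ι :=
  b.constr R fun i => Finsupp.linearCombination R fun l => φ i l.1

theorem T_z (φ : ι → List ι → V R ι) (i : ι) {l : List ι} (h : l.SortedLE) :
    T b φ (b i) (z l) = φ i l := by
  simp [T, z_eq h]

noncomputable def F : ℕ → ι → List ι → V R ι
  | 0, _, _ => 0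
  | _ + 1, i, [] => z [i]
  | n + 1, i, j :: m =>
    if i ≤ j then z (i :: j :: m) else
      z (j :: ins i m) + T b (F n) (b j) (F n i m - z (ins i m)) + T b (F n) ⁅b i, b j⁆ (z m)

/-- degree filtration -/
noncomputable def Deg (n : ℕ) : Submodule R (V R ι) := Finsupp.supported R R {l | l.1.length ≤ n}

theorem Deg_mono {m n : ℕ} (h : m ≤ n) : (Deg m : Submodule R (V R ι)) ≤ Deg n :=
  Finsupp.supported_mono fun _ hl => le_trans (α := ℕ) hl h

theorem z_mem {n : ℕ} {l : List ι} (hl : l.length ≤ n) : z l ∈ (Deg n : Submodule R (V R ι)) := by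
  by_cases h : l.SortedLE
  · rw [z_eq h]; exact Finsupp.single_mem_supported R 1 hl
  · simp [z, h]

theorem Deg_induction {n : ℕ} {P : V R ι → Prop} {v : V R ι} (hv : v ∈ Deg n) (h0 : P 0)
    (hadd : ∀ a c, P a → P c → P (a + c)) (hsmul : ∀ (r : R) a, P a → P (r • a))
    (hz : ∀ l : List ι, l.SortedLE → l.length ≤ n → P (z l)) : P v := by
  rw [Deg, Finsupp.supported_eq_span_single] at hv
  refine Submodule.span_induction ?_ h0 (fun a c _ _ => hadd a c) (fun r a _ => hsmul r a) hv
  rintro _ ⟨⟨l, hl⟩, hln, rfl⟩
  simpa [z_eq hl] using hz l hl hln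

theorem T_congr {φ ψ : ι → List ι → V R ι} {n : ℕ} (h : ∀ i l, l.SortedLE → l.length ≤ n → φ i l = ψ i l)
    (x : L) {v : V R ι} (hv : v ∈ Deg n) : T b φ x v = T b ψ x v := by
  refine Deg_induction (P := fun v => T b φ x v = T b ψ x v) hv (by simp) (fun a c ha hc => by simp [ha, hc]) (fun r a ha => by simp [ha]) fun l hl hln => ?_
  have : (T b φ).flip (z l) = (T b ψ).flip (z l) := b.ext fun i => by simp [T_z b _ i hl, h i l hl hln]
  exact LinearMap.congr_fun this x

theorem T_mem {φ : ι → List ι → V R ι} {n N : ℕ} (h : ∀ i l, l.SortedLE → l.length ≤ n → φ i l ∈ Deg N)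
    (x : L) {v : V R ι} (hv : v ∈ Deg n) : T b φ x v ∈ Deg N := by
  refine Deg_induction (P := fun v => T b φ x v ∈ Deg N) hv (by simp) (fun a c ha hc => by simpa using add_mem ha hc)
    (fun r a ha => by simpa using Submodule.smul_mem _ r ha) fun l hl hln => ?_
  have : LinearMap.range ((T b φ).flip (z l)) ≤ Deg N := by
    rw [LinearMap.range_eq_map, ← b.span_eq, Submodule.map_span_le]
    rintro _ ⟨i, rfl⟩
    simpa [T_z b _ i hl] using h i l hl hln
  exact this ⟨x, rfl⟩

theorem F_deg : ∀ (n : ℕ) (i : ι) (l : List ι), l.SortedLE → l.length < n →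
    F b n i l - z (ins i l) ∈ Deg l.length
  | 0, _, _, _, h => absurd h (Nat.not_lt_zero _)
  | n + 1, i, [], _, _ => by simp [F, ins]
  | n + 1, i, j :: m, hl, hn => by
    by_cases hij : i ≤ j
    · simp [F, ins, hij]
    · have hm : m.length < n := by simpa using hn
      have key : ∀ (x : L) (v : V R ι), v ∈ Deg m.length → T b (F b n) x v ∈ Deg (j :: m).length := by
        intro x v hv
        refine T_mem b (fun i' l' hl' hln => ?_) x hv
        have := F_deg n i' l' hl' (by omega)
        have h2 := add_mem (Deg_mono (n := m.length + 1) (by omega) this) (z_mem (R := R) (n := m.length + 1) (l := ins i' l') (by rw [length_ins]; omega))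
        simpa using h2
      have e : F b (n + 1) i (j :: m) - z (ins i (j :: m)) =
          T b (F b n) (b j) (F b n i m - z (ins i m)) + T b (F b n) ⁅b i, b j⁆ (z m) := by
        simp [F, ins, hij]; abel
      rw [e]
      exact add_mem (key _ _ (F_deg n i m (sorted_tail hl) hm)) (key _ _ (z_mem le_rfl))

theorem F_succ : ∀ (n : ℕ) (i : ι) (l : List ι), l.SortedLE → l.length < n → F b (n + 1) i l = F b n i l
  | 0, _, _, _, h => absurd h (Nat.not_lt_zero _)
  | n + 1, i, [], _, _ => rfl
  | n + 1, i, j :: m, hl, hn => by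
    have hm : m.length < n := by simpa using hn
    have hc : ∀ (x : L) (v : V R ι), v ∈ Deg m.length → T b (F b (n+1)) x v = T b (F b n) x v := fun x v hv =>
      T_congr b (fun i' l' hl' hln => F_succ n i' l' hl' (by omega)) x hv
    have e1 := F_succ n i m (sorted_tail hl) hm
    conv_lhs => rw [F]
    conv_rhs => rw [F]
    rw [e1, hc _ _ (F_deg b n i m (sorted_tail hl) hm), hc _ _ (z_mem le_rfl)]

theorem F_eq {n : ℕ} {i : ι} {l : List ι} (hl : l.SortedLE) (hn : l.length < n) :
    F b n i l = F b (l.length + 1) i l := by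
  obtain ⟨d, rfl⟩ := Nat.exists_eq_add_of_le hn
  induction d with
  | zero => rfl
  | succ d ih => rw [show l.length.succ + (d + 1) = (l.length.succ + d) + 1 by omega, F_succ b _ i l hl (by omega), ih (by omega)]

noncomputable def f (i : ι) (l : List ι) : V R ι := F b (l.length + 1) i l

/-- the action of `L` on ordered monomials -/
noncomputable def act : L →ₗ[R] V R ι →ₗ[R] V R ι := T b (f b)

theorem act_z (i : ι) {l : List ι} (h : l.SortedLE) : act b (b i) (z l) = f b i l := T_z b _ i h

theorem f_head {i : ι} {l : List ι} (hi : ∀ x ∈ l, i ≤ x) : f b i l = z (i :: l) := by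
  cases l with
  | nil => simp [f, F]
  | cons j m => simp [f, F, hi j]

theorem act_head {i : ι} {l : List ι} (h : l.SortedLE) (hi : ∀ x ∈ l, i ≤ x) : act b (b i) (z l) = z (i :: l) := by
  rw [act_z b i h, f_head b hi]

theorem f_deg (i : ι) {l : List ι} (h : l.SortedLE) : f b i l - z (ins i l) ∈ Deg l.length :=
  F_deg b _ i l h (Nat.lt_succ_self _)

theorem f_step {i j : ι} {m : List ι} (h : (j :: m).SortedLE) (hij : j < i) :
    f b i (j :: m) = act b (b j) (f b i m) + act b ⁅b i, b j⁆ (z m) := by
  have hm := sorted_tail h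
  have hc : ∀ (x : L) (v : V R ι), v ∈ Deg m.length → T b (F b (m.length + 1)) x v = act b x v := fun x v hv =>
    T_congr b (fun i' l' hl' hln => F_eq b hl' (by omega)) x hv
  have hh : act b (b j) (z (ins i m)) = z (j :: ins i m) :=
    act_head b (sorted_ins hm) (le_ins hij.le (le_of_sorted h))
  conv_lhs => rw [f, List.length_cons, F, if_neg (not_le.2 hij), hc _ _ (z_mem le_rfl), hc _ _ (F_deg b _ i m hm (Nat.lt_succ_self _))]
  rw [map_sub, hh]
  simp only [f]
  abel

theorem comm_base (i j : ι) {m : List ι} (hm : m.SortedLE) (hj : ∀ x ∈ m, j ≤ x) (hji : j ≤ i) :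
    act b (b i) (act b (b j) (z m)) = act b (b j) (act b (b i) (z m)) + act b ⁅b i, b j⁆ (z m) := by
  rcases eq_or_lt_of_le hji with rfl | hlt
  · simp
  · rw [act_head b hm hj, act_z b i (sorted_cons hm hj), f_step b (sorted_cons hm hj) hlt, act_z b i hm]

theorem comm_deg : ∀ (n : ℕ) (x y : L) (v : V R ι), v ∈ Deg n →
    act b x (act b y v) = act b y (act b x v) + act b ⁅x, y⁆ v := by
  intro n
  induction n using Nat.strong_induction_on with
  | _ n IH =>
    intro x y v hv
    refine Deg_induction (P := fun v => act b x (act b y v) = act b y (act b x v) + act b ⁅x, y⁆ v) hv (by simp) (fun a c ha hc => by simp only [map_add]; rw [ha, hc]; abel)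
      (fun r a ha => by simp only [map_smul]; rw [ha, smul_add]) fun l hl hln => ?_
    suffices hb : ∀ i j, act b (b i) (act b (b j) (z l)) = act b (b j) (act b (b i) (z l)) + act b ⁅b i, b j⁆ (z l) by
      have hy : ∀ i, act b (b i) (act b y (z l)) = act b y (act b (b i) (z l)) + act b ⁅b i, y⁆ (z l) := by
        intro i
        have : (act b (b i)).comp ((act b).flip (z l)) = (act b).flip (act b (b i) (z l)) + ((act b).flip (z l)).comp (LieAlgebra.ad R L (b i)) :=
          b.ext fun j => by simpa using hb i j
        simpa using LinearMap.congr_fun this y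
      have : (act b).flip (act b y (z l)) = (act b y).comp ((act b).flip (z l)) - ((act b).flip (z l)).comp (LieAlgebra.ad R L y) :=
        b.ext fun i => by
          simp only [LinearMap.flip_apply, LinearMap.sub_apply, LinearMap.comp_apply, LieAlgebra.ad_apply]
          rw [hy i, ← lie_skew (b i) y, map_neg, LinearMap.neg_apply, sub_eq_add_neg]
      have h2 := LinearMap.congr_fun this x
      simp only [LinearMap.flip_apply, LinearMap.sub_apply, LinearMap.comp_apply, LieAlgebra.ad_apply] at h2
      rw [h2, ← lie_skew x y, map_neg, LinearMap.neg_apply, sub_eq_add_neg]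
    intro i j
    rcases l with _ | ⟨h, t⟩
    · rcases le_total j i with hji | hij
      · exact comm_base b i j hl (by simp) hji
      · have := comm_base b j i hl (by simp) hij
        rw [this, ← lie_skew (b i) (b j), map_neg, LinearMap.neg_apply]; abel
    by_cases hjh : j ≤ h ∧ j ≤ i
    · exact comm_base b i j hl (fun x hx => by
        rcases List.mem_cons.1 hx with rfl | hx
        exacts [hjh.1, hjh.1.trans (le_of_sorted hl x hx)]) hjh.2
    by_cases hih : i ≤ h ∧ i ≤ j
    · have := comm_base b j i hl (fun x hx => by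
        rcases List.mem_cons.1 hx with rfl | hx
        exacts [hih.1, hih.1.trans (le_of_sorted hl x hx)]) hih.2
      rw [this, ← lie_skew (b i) (b j), map_neg, LinearMap.neg_apply]; abel
    have hi : h < i := by
      by_contra hc; push Not at hc
      exact hih ⟨hc, (le_total i j).resolve_right fun hji => hjh ⟨hji.trans hc, hji⟩⟩
    have hj : h < j := by
      by_contra hc; push Not at hc
      exact hjh ⟨hc, (le_total j i).resolve_right fun hij => hih ⟨hij.trans hc, hij⟩⟩
    have ht := sorted_tail hl
    have hlt : t.length < n := by simpa using hln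
    have hz : z (h :: t) = act b (b h) (z t) := (act_head b ht (le_of_sorted hl)).symm
    have ih : ∀ x y : L, act b x (act b y (z t)) = act b y (act b x (z t)) + act b ⁅x, y⁆ (z t) :=
      fun x y => IH t.length hlt x y _ (z_mem le_rfl)
    have step : ∀ p q : ι, h < p → h < q → act b (b p) (act b (b h) (act b (b q) (z t))) =
        act b (b h) (act b (b p) (act b (b q) (z t))) + act b ⁅b p, b h⁆ (act b (b q) (z t)) := by
      intro p q hp hq
      rw [act_z b q ht, ← sub_add_cancel (f b q t) (z (ins q t))]
      simp only [map_add]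
      rw [IH t.length hlt (b p) (b h) _ (f_deg b q ht),
        comm_base b p h (sorted_ins ht) (le_ins hq.le (le_of_sorted hl)) hp.le]
      abel
    have expand : ∀ p q : ι, h < p → h < q → act b (b p) (act b (b q) (z (h :: t))) =
        act b (b h) (act b (b p) (act b (b q) (z t))) + act b ⁅b p, b h⁆ (act b (b q) (z t)) +
          act b ⁅b q, b h⁆ (act b (b p) (z t)) + act b ⁅b p, ⁅b q, b h⁆⁆ (z t) := by
      intro p q hp hq
      rw [hz, ih (b q) (b h), map_add, step p q hp hq, ih (b p) ⁅b q, b h⁆]
      abel
    rw [expand i j hi hj, expand j i hj hi, hz, ih ⁅b i, b j⁆ (b h), ih (b i) (b j), map_add, leibniz_lie (b i) (b j) (b h), map_add,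
      LinearMap.add_apply]
    abel

theorem act_lie (x y : L) : act b ⁅x, y⁆ = act b x * act b y - act b y * act b x := by
  refine Finsupp.lhom_ext' fun l => LinearMap.ext_ring ?_
  have := comm_deg b l.1.length x y (z l.1) (z_mem le_rfl)
  rw [z_eq l.2] at this
  simp [this]

/-- representation of `L` on ordered monomials -/
noncomputable def rho : L →ₗ⁅R⁆ Module.End R (V R ι) :=
  { act b with map_lie' := fun {x y} => by rw [Ring.lie_def]; exact act_lie b x y }

noncomputable def P (l : List ι) : UniversalEnvelopingAlgebra R L :=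
  (l.map fun i => UniversalEnvelopingAlgebra.ι R (b i)).prod

noncomputable def psi : V R ι →ₗ[R] UniversalEnvelopingAlgebra R L := Finsupp.linearCombination R fun l => P b l.1

theorem psi_z {l : List ι} (h : l.SortedLE) : psi b (z l) = P b l := by simp [psi, z_eq h]

theorem psi_f : ∀ (n : ℕ) (i : ι) (l : List ι), l.SortedLE → l.length < n →
    psi b (f b i l) = UniversalEnvelopingAlgebra.ι R (b i) * P b l := by
  intro n
  induction n with
  | zero => intro i l _ h; exact absurd h (Nat.not_lt_zero _)
  | succ n IH =>
    intro i l hl hn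
    by_cases hi : ∀ x ∈ l, i ≤ x
    · rw [f_head b hi, psi_z b (sorted_cons hl hi)]; simp [P]
    rcases l with _ | ⟨j, m⟩
    · simp at hi
    have hm := sorted_tail hl
    have hlt : m.length < n := by simpa using hn
    have hji : j < i := by
      by_contra hc; push Not at hc
      refine hi fun x hx => ?_
      rcases List.mem_cons.1 hx with rfl | hx
      exacts [hc, hc.trans (le_of_sorted hl x hx)]
    have low : ∀ (x : L) (v : V R ι), v ∈ Deg m.length → psi b (act b x v) = UniversalEnvelopingAlgebra.ι R x * psi b v := by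
      intro x v hv
      refine Deg_induction (P := fun v => psi b (act b x v) = UniversalEnvelopingAlgebra.ι R x * psi b v) hv (by simp) (fun a c ha hc => by simp [mul_add, ha, hc]) (fun r a ha => by simp [ha]) fun k hk hkn => ?_
      have : (psi b).comp ((act b).flip (z k)) = (LinearMap.mulRight R (psi b (z k))).comp
          ((UniversalEnvelopingAlgebra.ι R : L →ₗ⁅R⁆ UniversalEnvelopingAlgebra R L) : L →ₗ[R] UniversalEnvelopingAlgebra R L) :=
        b.ext fun p => by simp [act_z b p hk, psi_z b hk, IH p k hk (by omega)]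
      simpa using LinearMap.congr_fun this x
    have htop : psi b (act b (b j) (z (ins i m))) = UniversalEnvelopingAlgebra.ι R (b j) * psi b (z (ins i m)) := by
      rw [act_head b (sorted_ins hm) (le_ins hji.le (le_of_sorted hl)), psi_z b (sorted_cons (sorted_ins hm) (le_ins hji.le (le_of_sorted hl))), psi_z b (sorted_ins hm)]
      simp [P]
    have hsplit : psi b (act b (b j) (f b i m)) = UniversalEnvelopingAlgebra.ι R (b j) * psi b (f b i m) := by
      rw [← sub_add_cancel (f b i m) (z (ins i m))]
      simp only [map_add]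
      rw [low _ _ (f_deg b i hm), htop, mul_add]
    rw [f_step b hl hji, map_add, hsplit, low _ _ (z_mem le_rfl), IH i m hm hlt, psi_z b hm, LieHom.map_lie, Ring.lie_def]
    simp only [P, List.map_cons, List.prod_cons]
    noncomm_ring

theorem psi_act (x : L) (v : V R ι) : psi b (act b x v) = UniversalEnvelopingAlgebra.ι R x * psi b v := by
  induction v using Finsupp.induction_linear with
  | zero => simp
  | add a c ha hc => simp [ha, hc, mul_add]
  | single l r =>
    have : Finsupp.single l r = r • z l.1 := by simp [z_eq l.2]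
    rw [this]
    have e : (psi b).comp ((act b).flip (z l.1)) = (LinearMap.mulRight R (psi b (z l.1))).comp
        ((UniversalEnvelopingAlgebra.ι R : L →ₗ⁅R⁆ UniversalEnvelopingAlgebra R L) : L →ₗ[R] UniversalEnvelopingAlgebra R L) :=
      b.ext fun p => by simp [act_z b p l.2, psi_z b l.2, psi_f b _ p l.1 l.2 (Nat.lt_succ_self _)]
    have e' := LinearMap.congr_fun e x
    simp at e'
    simp [e']

noncomputable def phi : UniversalEnvelopingAlgebra R L →ₗ[R] V R ι :=
  (LinearMap.applyₗ (z [] : V R ι)).comp (UniversalEnvelopingAlgebra.lift R (rho b)).toLinearMap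

theorem phi_P : ∀ {l : List ι}, l.SortedLE → phi b (P b l) = z l
  | [], _ => by simp [phi, P]
  | j :: m, h => by
    have := phi_P (sorted_tail h)
    simp only [phi, LinearMap.comp_apply, LinearMap.applyₗ_apply_apply, AlgHom.toLinearMap_apply] at this
    simp only [P, List.map_cons, List.prod_cons, phi, LinearMap.comp_apply, LinearMap.applyₗ_apply_apply, AlgHom.toLinearMap_apply,
      map_mul, Module.End.mul_apply]
    rw [show (List.map (fun i => UniversalEnvelopingAlgebra.ι R (b i)) m).prod = P b m from rfl, this, UniversalEnvelopingAlgebra.lift_ι_apply]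
    exact act_head b (sorted_tail h) (le_of_sorted h)

theorem psi_phi (u : UniversalEnvelopingAlgebra R L) : psi b (phi b u) = u := by
  suffices ∀ v, psi b (UniversalEnvelopingAlgebra.lift R (rho b) u v) = u * psi b v by
    have := this (z [])
    rw [psi_z b (List.sortedLE_iff_pairwise.2 List.Pairwise.nil), P, List.map_nil, List.prod_nil, mul_one] at this
    simpa [phi] using this
  obtain ⟨t, rfl⟩ := (RingCon.mk'_surjective (c := UniversalEnvelopingAlgebra.ringCon R L)) u
  show ∀ v, psi b (UniversalEnvelopingAlgebra.lift R (rho b) (UniversalEnvelopingAlgebra.mkAlgHom R L t) v) = UniversalEnvelopingAlgebra.mkAlgHom R L t * psi b v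
  induction t using TensorAlgebra.induction with
  | algebraMap r => intro v; simp [Algebra.smul_def]
  | ι x =>
    intro v
    show psi b (UniversalEnvelopingAlgebra.lift R (rho b) (UniversalEnvelopingAlgebra.ι R x) v) = _
    rw [UniversalEnvelopingAlgebra.lift_ι_apply]; exact psi_act b x v
  | mul a c ha hc => intro v; rw [map_mul, map_mul, Module.End.mul_apply, ha, hc, mul_assoc]
  | add a c ha hc => intro v; rw [map_add, map_add, LinearMap.add_apply, map_add, ha, hc, add_mul]

theorem phi_psi (v : V R ι) : phi b (psi b v) = v := by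
  induction v using Finsupp.induction_linear with
  | zero => simp
  | add a c ha hc => simp [ha, hc]
  | single l r =>
    have : Finsupp.single l r = r • z l.1 := by simp [z_eq l.2]
    rw [this, map_smul, map_smul, psi_z b l.2, phi_P b l.2]

/-- PBW basis -/
noncomputable def basis : Module.Basis {l : List ι // l.SortedLE} R (UniversalEnvelopingAlgebra R L) :=
  Module.Basis.ofRepr (LinearEquiv.ofLinearMap (phi b) (psi b) (LinearMap.ext (phi_psi b)) (LinearMap.ext (psi_phi b)))

theorem basis_apply (l : {l : List ι // l.SortedLE}) :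
    basis b l = (l.1.map fun i => UniversalEnvelopingAlgebra.ι R (b i)).prod := by
  simp [basis, psi, P]

include b in
theorem ι_injective : Function.Injective (UniversalEnvelopingAlgebra.ι R : L → UniversalEnvelopingAlgebra R L) := by
  intro x y h
  have h2 := congrArg (phi b) h
  have key : ((phi b).comp ((UniversalEnvelopingAlgebra.ι R : L →ₗ⁅R⁆ UniversalEnvelopingAlgebra R L) : L →ₗ[R] UniversalEnvelopingAlgebra R L)) =
      b.constr R (fun i => (z [i] : V R ι)) := b.ext fun i => by
    have := phi_P b (List.sortedLE_iff_pairwise.2 (List.pairwise_singleton (· ≤ ·) i))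
    simpa [P] using this
  have hinj : Function.Injective (b.constr R (fun i => (z [i] : V R ι))) := by
    have : (b.constr R fun i => (z [i] : V R ι)) =
        (Finsupp.lmapDomain R R (fun i => (⟨[i], List.sortedLE_iff_pairwise.2 (List.pairwise_singleton _ i)⟩ : {l : List ι // l.SortedLE}))).comp b.repr.toLinearMap :=
      b.ext fun i => by simp [z_eq (List.sortedLE_iff_pairwise.2 (List.pairwise_singleton (· ≤ ·) i))]
    rw [this, LinearMap.coe_comp]
    exact (Finsupp.mapDomain_injective fun i j h => by simpa using congrArg Subtype.val h).comp b.repr.injective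
  apply hinj
  rw [← key]
  exact h2

end Groth.Agent.PBW
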