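import Groth.Agent.PBW.Basic
import Groth.Agent.PLieLib.Basic
import Mathlib.Algebra.Polynomial.Derivative
import Mathlib.Algebra.CharP.Lemmas
import Mathlib.Data.Nat.Choose.Dvd
import Mathlib.Data.ZMod.Basic
import Mathlib.Algebra.Field.ZMod

universe u v w

open Polynomial

namespace Groth.Agent.PBW

variable {p : ℕ} [hp : Fact p.Prime]

theorem choose_pred (A : Type*) [Ring A] (h0 : (p : A) = 0) : ∀ k : ℕ, k < p → ((p - 1).choose k : A) = (-1) ^ k
  | 0, _ => by simp
  | k + 1, hk => by
    have h1 : (p.choose (k + 1) : A) = 0 := by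
      obtain ⟨d, hd⟩ := hp.out.dvd_choose_self (Nat.succ_ne_zero k) hk
      rw [hd, Nat.cast_mul, h0, zero_mul]
    have h2 : p.choose (k + 1) = (p - 1).choose k + (p - 1).choose (k + 1) := by
      conv_lhs => rw [show p = p - 1 + 1 by have := hp.out.pos; omega]
      rw [Nat.choose_succ_succ]
    rw [h2, Nat.cast_add, choose_pred A h0 k (by omega)] at h1
    rw [pow_succ, mul_neg_one]
    exact eq_neg_of_add_eq_zero_right h1

theorem sub_pow_pred {A : Type*} [Ring A] (h0 : (p : A) = 0) {x y : A} (h : Commute x y) :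
    (x - y) ^ (p - 1) = ∑ i ∈ Finset.range p, x ^ i * y ^ (p - 1 - i) := by
  have hpos := hp.out.pos
  rw [sub_eq_add_neg, h.neg_right.add_pow, show p - 1 + 1 = p by omega]
  refine Finset.sum_congr rfl fun i hi => ?_
  rw [Finset.mem_range] at hi
  rw [← Nat.choose_symm (show i ≤ p - 1 by omega), choose_pred A h0 (p - 1 - i) (by omega), neg_pow y, mul_assoc]
  congr 1
  have hc : Commute ((-1 : A) ^ (p - 1 - i)) (y ^ (p - 1 - i)) :=
    ((Commute.one_left _).neg_left).pow_left _
  rw [mul_assoc, ← hc.eq, ← mul_assoc, ← pow_add, ← two_mul, pow_mul, neg_one_sq, one_pow, one_mul]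

theorem sub_pow_self {A : Type*} [Ring A] (h0 : (p : A) = 0) {x y : A} (h : Commute x y) :
    (x - y) ^ p = x ^ p - y ^ p := by
  conv_lhs => rw [show p = p - 1 + 1 by have := hp.out.pos; omega, pow_succ]
  rw [sub_pow_pred h0 h, h.geom_sum₂_mul]

variable {A : Type v} [Ring A]

/-- commutator map -/
def adE (u : A) : A →+ A := AddMonoidHom.mulLeft u - AddMonoidHom.mulRight u

theorem adE_apply (u x : A) : adE u x = u * x - x * u := rfl

def endL (u : A) : AddMonoid.End A := AddMonoidHom.mulLeft u
def endR (u : A) : AddMonoid.End A := AddMonoidHom.mulRight u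

theorem endL_apply (u x : A) : endL u x = u * x := rfl
theorem endR_apply (u x : A) : endR u x = x * u := rfl

theorem end_comm (u : A) : Commute (endL u) (endR u) := by
  ext x; exact (mul_assoc u x u).symm

theorem endL_pow (u : A) (i : ℕ) (x : A) : (endL u ^ i) x = u ^ i * x := by
  induction i generalizing x with
  | zero => simp
  | succ i ih => rw [pow_succ, AddMonoid.End.coe_mul, Function.comp_apply, ih, endL_apply, pow_succ, mul_assoc]

theorem endR_pow (u : A) (i : ℕ) (x : A) : (endR u ^ i) x = x * u ^ i := by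
  induction i generalizing x with
  | zero => simp
  | succ i ih => rw [pow_succ, AddMonoid.End.coe_mul, Function.comp_apply, ih, endR_apply, pow_succ', mul_assoc]

theorem end_char (h0 : (p : A) = 0) : (p : AddMonoid.End A) = 0 := by
  ext x
  show ((p : AddMonoid.End A)) x = 0
  simp [h0]

theorem ad_pow_pred (h0 : (p : A) = 0) (u v : A) :
    ((endL u - endR u) ^ (p - 1)) v = ∑ i ∈ Finset.range p, u ^ i * v * u ^ (p - 1 - i) := by
  rw [sub_pow_pred (end_char h0) (end_comm u)]
  refine (AddMonoidHom.finsetSum_apply _ _ _).trans (Finset.sum_congr rfl fun i _ => ?_)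
  show (endL u ^ i) ((endR u ^ (p - 1 - i)) v) = _
  rw [endR_pow, endL_pow, mul_assoc]

theorem ad_pow_self (h0 : (p : A) = 0) (u v : A) :
    ((endL u - endR u) ^ p) v = u ^ p * v - v * u ^ p := by
  rw [sub_pow_self (end_char h0) (end_comm u)]
  show (endL u ^ p) v - (endR u ^ p) v = _
  rw [endL_pow, endR_pow]

/-- associative word -/
def word {ι : Type*} (x : ι → A) (x₁ : A) : List ι → A
  | [] => x₁
  | i :: w => x i * word x x₁ w - word x x₁ w * x i

theorem derivative_pow' {P : A[X]} : ∀ n : ℕ,
    derivative (P ^ n) = ∑ i ∈ Finset.range n, P ^ i * derivative P * P ^ (n - 1 - i)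
  | 0 => by simp
  | n + 1 => by
    rw [pow_succ, derivative_mul, derivative_pow' n, Finset.sum_range_succ, Finset.sum_mul]
    congr 1
    · refine Finset.sum_congr rfl fun i hi => ?_
      rw [Finset.mem_range] at hi
      rw [show n + 1 - 1 - i = n - 1 - i + 1 by omega, pow_succ, mul_assoc (_ * _)]
    · simp

noncomputable def lineP (a c : A) : A[X] := C a + X * C c

theorem ad_expand (a c : A) : ∀ n : ℕ,
    ((endL (lineP a c) - endR (lineP a c)) ^ n) (C c) =
      ∑ t : Fin n → Bool, monomial (Fintype.card {i // t i = true}) (word (fun b => if b then c else a) c (List.ofFn t))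
  | 0 => by
    rw [Fintype.sum_unique]
    simp [word, monomial_zero_left]
  | n + 1 => by
    rw [pow_succ', AddMonoid.End.coe_mul, Function.comp_apply, ad_expand a c n, ← (Fin.consEquiv fun _ : Fin (n+1) => Bool).sum_comp,
      Fintype.sum_prod_type_right, map_sum]
    refine Finset.sum_congr rfl fun t _ => ?_
    rw [Fintype.sum_bool]
    have hT : Fintype.card {i // (Fin.cons true t : Fin (n+1) → Bool) i = true} = Fintype.card {i // t i = true} + 1 := by
      rw [Fintype.card_subtype, Fintype.card_subtype, Fin.card_filter_univ_succ]; simp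
    have hF : Fintype.card {i // (Fin.cons false t : Fin (n+1) → Bool) i = true} = Fintype.card {i // t i = true} := by
      rw [Fintype.card_subtype, Fintype.card_subtype, Fin.card_filter_univ_succ]; simp
    show _ = monomial (Fintype.card {i // (Fin.cons true t : Fin (n+1) → Bool) i = true}) _ + monomial (Fintype.card {i // (Fin.cons false t : Fin (n+1) → Bool) i = true}) _
    rw [hT, hF]
    show lineP a c * _ - _ * lineP a c = monomial _ (word _ c (List.ofFn (Fin.cons true t))) + monomial _ (word _ c (List.ofFn (Fin.cons false t)))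
    simp only [List.ofFn_cons, word, if_true, Bool.false_eq_true, if_false, lineP, add_mul, mul_add, map_sub]
    rw [X_mul_C, C_mul_X_eq_monomial, ← monomial_zero_left, monomial_mul_monomial, monomial_mul_monomial, monomial_mul_monomial,
      monomial_mul_monomial, zero_add, add_zero, add_comm 1]
    abel

variable {R : Type u} [CommRing R] [CharP R p]

theorem natDegree_lineP (a c : A) : (lineP a c).natDegree ≤ 1 := by
  unfold lineP
  refine natDegree_add_le_of_le (m := 0) (n := 1) (natDegree_C a).le ?_ |>.trans (by simp)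
  rw [X_mul_C]
  exact (natDegree_C_mul_le c X).trans natDegree_X_le

theorem p_zero [Algebra R A] : (p : A) = 0 := by
  rw [← map_natCast (algebraMap R A), CharP.cast_eq_zero, map_zero]

theorem add_pow_jacobson [Algebra R A] (a c : A) :
    (a + c) ^ p = a ^ p + c ^ p - ∑ t : Fin (p - 1) → Bool,
      (ZMod.castHom (dvd_refl p) R) ((Fintype.card {i // t i = false} : ZMod p)⁻¹) •
        word (fun b => if b then c else a) c (List.ofFn t) := by
  set κ := ZMod.castHom (dvd_refl p) R with hκ
  set W : (Fin (p - 1) → Bool) → A := fun t => word (fun b => if b then c else a) c (List.ofFn t)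
  set n : (Fin (p - 1) → Bool) → ℕ := fun t => Fintype.card {i // t i = true}
  have hn : ∀ t, n t ≤ p - 1 := fun t => (Fintype.card_subtype_le _).trans (Fintype.card_fin _).le
  have hnf : ∀ t, Fintype.card {i // t i = false} + (n t + 1) = p := fun t => by
    have := Fintype.card_subtype_compl (fun i : Fin (p-1) => t i = true)
    simp only [Bool.not_eq_true, Fintype.card_fin] at this
    have h2 := hn t
    have := hp.out.pos
    show _ + (n t + 1) = p
    simp only [n] at h2 ⊢
    omega
  set Q := lineP a c ^ p with hQ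
  have h0 : (p : A[X]) = 0 := by rw [← map_natCast (C : A →+* A[X]), p_zero (R := R), map_zero]
  have hder : derivative Q = ∑ t, monomial (n t) (W t) := by
    have hd : derivative (lineP a c) = C c := by simp [lineP]
    rw [hQ, derivative_pow', hd, ← ad_pow_pred h0]
    exact ad_expand a c (p - 1)
  have hcoef : ∀ s, 1 ≤ s → s < p → Q.coeff s = κ ((s : ZMod p)⁻¹) • ∑ t, (if n t + 1 = s then W t else 0) := by
    intro s h1 h2
    have h3 := congrArg (fun q => q.coeff (s - 1)) hder
    simp only [coeff_derivative, finsetSum_coeff, coeff_monomial, show s - 1 + 1 = s by omega] at h3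
    rw [← Nat.cast_succ, Nat.succ_eq_add_one, show s - 1 + 1 = s by omega] at h3
    have h4 : ∀ t, (n t = s - 1) = (n t + 1 = s) := fun t => propext (by omega)
    simp only [h4] at h3
    rw [← h3, ← nsmul_eq_mul', ← Nat.cast_smul_eq_nsmul R, smul_smul, ← map_natCast κ s, ← map_mul, show ((s : ZMod p)⁻¹ * (s : ZMod p) = 1) from inv_mul_cancel₀ (G₀ := ZMod p) ?_, map_one, one_smul]
    rw [Ne, CharP.cast_eq_zero_iff (ZMod p) p]
    exact Nat.not_dvd_of_pos_of_lt (by omega) h2
  have heval : (a + c) ^ p = ∑ s ∈ Finset.range (p + 1), Q.coeff s := by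
    let ev : A[X] →+* A := eval₂RingHom' (RingHom.id A) 1 fun x => Commute.one_right x
    have : ev (lineP a c) = a + c := by simp [ev, lineP, X_mul_C]
    rw [← this, ← map_pow, ← hQ]
    show eval₂ (RingHom.id A) 1 Q = _
    rw [eval₂_eq_sum_range' (RingHom.id A) (n := p + 1) ?_]
    · simp
    · exact Nat.lt_succ_of_le ((natDegree_pow_le.trans (Nat.mul_le_mul_left p (natDegree_lineP a c))).trans (mul_one p).le)
  have c0 : Q.coeff 0 = a ^ p := by
    rw [hQ, ← constantCoeff_apply, map_pow]; simp [lineP, constantCoeff_apply]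
  have cp : Q.coeff p = c ^ p := by
    rw [hQ]
    have := coeff_pow_of_natDegree_le (natDegree_lineP a c) (m := p)
    rw [mul_one] at this
    rw [this]; simp [lineP, coeff_C]
  rw [heval, Finset.sum_range_succ, cp, Finset.range_eq_Ico, Finset.sum_eq_sum_Ico_succ_bot hp.out.pos, c0]
  rw [Finset.sum_congr rfl fun s hs => hcoef s (Finset.mem_Ico.1 hs).1 (Finset.mem_Ico.1 hs).2]
  simp only [Finset.smul_sum, smul_ite, smul_zero]
  rw [Finset.sum_comm]
  have key : ∀ t, (∑ s ∈ Finset.Ico (0 + 1) p, if n t + 1 = s then κ ((s : ZMod p)⁻¹) • W t else 0) =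
      -(κ ((Fintype.card {i // t i = false} : ZMod p)⁻¹) • W t) := by
    intro t
    have hz : ((n t + 1 : ℕ) : ZMod p) = - (Fintype.card {i // t i = false} : ZMod p) := by
      apply eq_neg_of_add_eq_zero_left
      rw [← Nat.cast_add, add_comm, hnf t, ZMod.natCast_self]
    rw [Finset.sum_ite_eq]
    split_ifs with hm
    · have hi : ∀ z : ZMod p, (-z)⁻¹ = -(z⁻¹) := fun z => inv_neg
      rw [hz, hi, map_neg, neg_smul]
    · have : Fintype.card {i // t i = false} = 0 := by
        simp only [Finset.mem_Ico] at hm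
        have := hnf t; omega
      simp [this]
  rw [Finset.sum_congr rfl fun t _ => key t, Finset.sum_neg_distrib]
  abel

variable {L : Type w} [LieRing L] [LieAlgebra R L]

attribute [local instance] LieRing.ofAssociativeRing

theorem map_jacobson_assoc [Algebra R A] (e : L →ₗ⁅R⁆ A) (x₀ x₁ : L) :
    (e x₀ + e x₁) ^ p = e x₀ ^ p + e x₁ ^ p - e (PLie.jacobson R p x₀ x₁) := by
  rw [add_pow_jacobson (R := R) (e x₀) (e x₁)]
  congr 1
  rw [PLie.jacobson, map_sum]
  refine Finset.sum_congr rfl fun t _ => ?_
  rw [map_smul]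
  congr 1
  have : ∀ l : List Bool, word (fun b => if b then e x₁ else e x₀) (e x₁) l = e (PLie.bracketWord (PLie.pair x₀ x₁) x₁ l) := by
    intro l
    induction l with
    | nil => rfl
    | cons i l ih =>
      rw [PLie.bracketWord_cons, LieHom.map_lie, Ring.lie_def, ← ih]
      cases i <;> rfl
  exact this _

theorem map_ad_pow_assoc [Algebra R A] (e : L →ₗ⁅R⁆ A) (x z : L) :
    e ((LieAlgebra.ad R L x ^ p) z) = e x ^ p * e z - e z * e x ^ p := by
  rw [← ad_pow_self (p_zero (R := R))]
  generalize p = k
  induction k generalizing z with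
  | zero => simp
  | succ k ih =>
    rw [pow_succ, Module.End.mul_apply, ih, pow_succ, AddMonoid.End.coe_mul, Function.comp_apply]
    congr 1
    rw [LieAlgebra.ad_apply, LieHom.map_lie, Ring.lie_def]
    rfl

variable {ι : Type*} [LinearOrder ι]

omit [CharP R p] [LinearOrder ι] in
theorem basis_induction (b : Module.Basis ι R L) {P : L → Prop} (zero : P 0) (add : ∀ x y, P x → P y → P (x + y))
    (smul : ∀ (r : R) i, P (r • b i)) (x : L) : P x := by
  have : x = Finsupp.linearCombination R b (b.repr x) := (b.linearCombination_repr x).symm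
  rw [this]
  induction b.repr x using Finsupp.induction_linear with
  | zero => simpa using zero
  | add f g hf hg => rw [map_add]; exact add _ _ hf hg
  | single i r => rw [Finsupp.linearCombination_single]; exact smul r i

theorem pmap_ext (b : Module.Basis ι R L) {φ ψ : PLie.PMap R p L} (h : ∀ i, φ (b i) = ψ (b i)) : φ = ψ := by
  suffices ∀ x, φ.toFun x = ψ.toFun x by
    obtain ⟨f, _, _, _⟩ := φ; obtain ⟨g, _, _, _⟩ := ψ
    congr; exact funext this
  intro x
  induction x using basis_induction b with
  | zero =>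
    have e : ∀ χ : PLie.PMap R p L, χ.toFun 0 = 0 := fun χ => by
      have := χ.map_smul 0 0
      rwa [zero_pow hp.out.ne_zero, zero_smul, zero_smul] at this
    rw [e, e]
  | add x y hx hy => rw [φ.map_add, ψ.map_add, hx, hy]
  | smul r i => rw [φ.map_smul, ψ.map_smul, h]

omit [LinearOrder ι] in
theorem exists_pmap (b : Module.Basis ι R L) (y : ι → L)
    (hy : ∀ i, LieAlgebra.ad R L (b i) ^ p = LieAlgebra.ad R L (y i)) :
    ∃! φ : PLie.PMap R p L, ∀ i, φ (b i) = y i := by
  letI : LinearOrder ι := IsWellOrder.linearOrder (α := ι) WellOrderingRel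
  let e := UniversalEnvelopingAlgebra.ι R (L := L)
  have hinj : Function.Injective e := ι_injective b
  let d : ι → UniversalEnvelopingAlgebra R L := fun i => e (b i) ^ p - e (y i)
  have hd : ∀ (i : ι) (z : L), d i * e z = e z * d i := fun i z => by
    have h1 := map_ad_pow_assoc (p := p) e (b i) z
    rw [hy i, LieAlgebra.ad_apply, LieHom.map_lie, Ring.lie_def] at h1
    simp only [d, sub_mul, mul_sub]
    linear_combination (norm := abel) -h1
  let Δ : L → UniversalEnvelopingAlgebra R L := fun x => Finsupp.sum (b.repr x) fun i r => r ^ p • d i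
  haveI : Nontrivial R := CharP.nontrivial_of_char_ne_one hp.out.ne_one
  have Δadd : ∀ x x', Δ (x + x') = Δ x + Δ x' := fun x x' => by
    simp only [Δ, map_add]
    rw [Finsupp.sum_add_index']
    · simp [zero_pow hp.out.ne_zero]
    · intro i r s; rw [add_pow_char r s p, add_smul]
  have Δsmul : ∀ (r : R) x, Δ (r • x) = r ^ p • Δ x := fun r x => by
    simp only [Δ, map_smul, Finsupp.smul_sum]
    rw [Finsupp.sum_smul_index]
    · simp [mul_pow, mul_smul]
    · intro i; simp [zero_pow hp.out.ne_zero]
  have Δb : ∀ i, Δ (b i) = d i := fun i => by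
    simp [Δ, zero_pow hp.out.ne_zero]
  have hsm : ∀ (r : R) (x : L), e (r • x) ^ p = r ^ p • e x ^ p := fun r x => by rw [map_smul, smul_pow]
  have mem : ∀ x, ∃ v, e v = e x ^ p - Δ x := by
    intro x
    induction x using basis_induction b with
    | zero => exact ⟨0, by simp [Δ, zero_pow hp.out.ne_zero]⟩
    | add x x' hx hx' =>
      obtain ⟨v, hv⟩ := hx; obtain ⟨v', hv'⟩ := hx'
      refine ⟨v + v' - PLie.jacobson R p x x', ?_⟩
      rw [map_sub, map_add, hv, hv', Δadd, map_add e x x', map_jacobson_assoc e x x']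
      abel
    | smul r i => exact ⟨r ^ p • y i, by rw [hsm, Δsmul, Δb, map_smul, ← smul_sub]; simp [d]⟩
  choose φ hφ using mem
  let Φ : PLie.PMap R p L :=
    { toFun := φ
      map_smul := fun r x => hinj (by rw [hφ, map_smul e (r ^ p), hφ, hsm, Δsmul, smul_sub])
      ad_map := fun x => LinearMap.ext fun z => hinj (by
        rw [map_ad_pow_assoc, LieAlgebra.ad_apply, LieHom.map_lie, Ring.lie_def, hφ]
        have : Δ x * e z = e z * Δ x := by
          simp only [Δ, Finsupp.sum, Finset.sum_mul, Finset.mul_sum]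
          exact Finset.sum_congr rfl fun i _ => by rw [smul_mul_assoc, mul_smul_comm, hd]
        rw [sub_mul, mul_sub, this]; abel)
      map_add := fun x x' => hinj (by
        rw [hφ, map_sub, map_add e (φ x), hφ, hφ, Δadd, map_add e x x', map_jacobson_assoc e x x']
        abel) }
  have hΦ : ∀ i, Φ (b i) = y i := fun i => hinj (by
    show e (φ (b i)) = _
    rw [hφ, Δb]; simp [d])
  exact ⟨Φ, hΦ, fun ψ hψ => pmap_ext b fun i => (hψ i).trans (hΦ i).symm⟩

end Groth.Agent.PBW
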