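import Mathlib
import Groth.Agent.PBW.Basic
import Groth.Agent.PBW.Jacobson

/-!
# The restricted enveloping algebra and its PBW basis

`Res φ` is the quotient of `U(L)` by `ι x ^ p = ι (φ x)`; the ordered monomials with all exponents
`< p` in a basis of `L` form a basis of it.
-/

universe u v

namespace Groth.Agent.PBW

attribute [local instance] LieRing.ofAssociativeRing

variable {R : Type u} [CommRing R] {p : ℕ} [hp : Fact p.Prime] [CharP R p]
  {L : Type v} [LieRing L] [LieAlgebra R L]

/-- the defining relation -/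
inductive RRel (φ : PLie.PMap R p L) :
    UniversalEnvelopingAlgebra R L → UniversalEnvelopingAlgebra R L → Prop
  | pow (x : L) : RRel φ (UniversalEnvelopingAlgebra.ι R x ^ p) (UniversalEnvelopingAlgebra.ι R (φ x))

/-- the restricted enveloping algebra -/
abbrev Res (φ : PLie.PMap R p L) : Type (max u v) := RingQuot (RRel φ)

noncomputable def quo (φ : PLie.PMap R p L) : UniversalEnvelopingAlgebra R L →ₐ[R] Res φ :=
  RingQuot.mkAlgHom R (RRel φ)

/-- the canonical map -/
noncomputable def rι (φ : PLie.PMap R p L) : L →ₗ⁅R⁆ Res φ :=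
  (quo φ).toLieHom.comp (UniversalEnvelopingAlgebra.ι R)

theorem rι_apply (φ : PLie.PMap R p L) (x : L) : rι φ x = quo φ (UniversalEnvelopingAlgebra.ι R x) := rfl

theorem rι_pow (φ : PLie.PMap R p L) (x : L) : rι φ (φ x) = rι φ x ^ p := by
  rw [rι_apply, rι_apply, ← map_pow]
  exact (RingQuot.mkAlgHom_rel R (RRel.pow (φ := φ) x)).symm

theorem rι_lie (φ : PLie.PMap R p L) (x y : L) :
    rι φ ⁅x, y⁆ = rι φ x * rι φ y - rι φ y * rι φ x := by
  rw [LieHom.map_lie, Ring.lie_def]

theorem quo_surjective (φ : PLie.PMap R p L) : Function.Surjective (quo φ) :=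
  RingQuot.mkAlgHom_surjective R _

/-- universal property -/
noncomputable def rlift (φ : PLie.PMap R p L) {B : Type*} [Ring B] [Algebra R B] (f : L →ₗ⁅R⁆ B)
    (hf : ∀ x, f (φ x) = f x ^ p) : Res φ →ₐ[R] B :=
  RingQuot.liftAlgHom R ⟨UniversalEnvelopingAlgebra.lift R f, by
    intro a c h
    cases h with
    | pow x => simp [hf x]⟩

@[simp] theorem rlift_rι (φ : PLie.PMap R p L) {B : Type*} [Ring B] [Algebra R B] (f : L →ₗ⁅R⁆ B)
    (hf : ∀ x, f (φ x) = f x ^ p) (x : L) : rlift φ f hf (rι φ x) = f x := by
  simp [rlift, rι_apply, quo]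

theorem res_hom_ext (φ : PLie.PMap R p L) {B : Type*} [Ring B] [Algebra R B] {g h : Res φ →ₐ[R] B}
    (H : ∀ x, g (rι φ x) = h (rι φ x)) : g = h := by
  apply RingQuot.ringQuot_ext'
  apply UniversalEnvelopingAlgebra.hom_ext (R := R)
  apply LieHom.ext
  intro x
  exact H x

/-! ### the filtration -/

section Basis

variable {n : ℕ} (b : Module.Basis (Fin n) R L)

/-- monomials of length at most `d` -/
noncomputable def Fil (d : ℕ) : Submodule R (UniversalEnvelopingAlgebra R L) :=
  (Deg (R := R) (ι := Fin n) d).map (psi b)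

omit hp in
theorem Fil_mono {d e : ℕ} (h : d ≤ e) : Fil b d ≤ Fil b e := Submodule.map_mono (Deg_mono h)

omit hp in
theorem P_mem_Fil {d : ℕ} {l : List (Fin n)} (hl : l.SortedLE) (h : l.length ≤ d) : P b l ∈ Fil b d :=
  ⟨z l, z_mem h, psi_z b hl⟩

omit hp in
theorem one_mem_Fil (d : ℕ) : (1 : UniversalEnvelopingAlgebra R L) ∈ Fil b d := by
  have := P_mem_Fil b (d := d) (l := []) (List.sortedLE_iff_pairwise.2 List.Pairwise.nil) (Nat.zero_le _)
  simpa [P] using this

omit hp in
theorem act_deg (x : L) {d : ℕ} {v : V R (Fin n)} (hv : v ∈ Deg d) : act b x v ∈ Deg (d + 1) := by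
  refine T_mem b (φ := f b) (fun i l hl hln => ?_) x hv
  rw [← sub_add_cancel (f b i l) (z (ins i l))]
  exact add_mem (Deg_mono (by omega) (f_deg b i hl)) (z_mem (by rw [length_ins]; omega))

omit hp in
theorem ι_mul_mem (x : L) {d : ℕ} {a : UniversalEnvelopingAlgebra R L} (ha : a ∈ Fil b d) :
    UniversalEnvelopingAlgebra.ι R x * a ∈ Fil b (d + 1) := by
  obtain ⟨v, hv, rfl⟩ := ha
  exact ⟨act b x v, act_deg b x hv, psi_act b x v⟩

omit hp in
theorem P_mul_mem : ∀ (l : List (Fin n)) {e : ℕ} {a : UniversalEnvelopingAlgebra R L},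
    a ∈ Fil b e → P b l * a ∈ Fil b (l.length + e)
  | [], e, a, ha => by simpa [P] using ha
  | i :: m, e, a, ha => by
    have := ι_mul_mem b (b i) (P_mul_mem m ha)
    rw [List.length_cons, show m.length + 1 + e = m.length + e + 1 by omega]
    simpa [P, mul_assoc] using this

omit hp in
theorem Fil_mul {d e : ℕ} {a c : UniversalEnvelopingAlgebra R L} (ha : a ∈ Fil b d) (hc : c ∈ Fil b e) :
    a * c ∈ Fil b (d + e) := by
  obtain ⟨v, hv, rfl⟩ := ha
  refine Deg_induction (P := fun v => psi b v * c ∈ Fil b (d + e)) hv (by simp) (fun x y hx hy => by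
    rw [map_add, add_mul]; exact add_mem hx hy) (fun r x hx => by
    rw [map_smul, smul_mul_assoc]; exact Submodule.smul_mem _ r hx) fun l hl hln => ?_
  rw [psi_z b hl]
  exact Fil_mono b (by omega) (P_mul_mem b l hc)

/-- strictly lower part -/
noncomputable def Low : ℕ → Submodule R (UniversalEnvelopingAlgebra R L)
  | 0 => ⊥
  | d + 1 => Fil b d

omit hp in
theorem Low_le (d : ℕ) : Low b d ≤ Fil b d := by
  cases d with
  | zero => exact bot_le
  | succ d => exact Fil_mono b (Nat.le_succ d)

omit hp in
theorem Fil_le_Low {d e : ℕ} (h : d < e) : Fil b d ≤ Low b e := by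
  cases e with
  | zero => omega
  | succ e => exact Fil_mono b (by omega)

omit hp in
theorem low_mul {d e : ℕ} {a c : UniversalEnvelopingAlgebra R L} (ha : a ∈ Low b d) (hc : c ∈ Fil b e) :
    a * c ∈ Low b (d + e) := by
  cases d with
  | zero => simp [(Submodule.mem_bot R).1 ha]
  | succ d => exact Fil_le_Low b (show d + e < d + 1 + e by omega) (Fil_mul b ha hc)

omit hp in
theorem mul_low {d e : ℕ} {a c : UniversalEnvelopingAlgebra R L} (ha : a ∈ Fil b d) (hc : c ∈ Low b e) :
    a * c ∈ Low b (d + e) := by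
  cases e with
  | zero => simp [(Submodule.mem_bot R).1 hc]
  | succ e => exact Fil_le_Low b (show d + e < d + (e + 1) by omega) (Fil_mul b ha hc)

/-- `a` has top part `a'` in degree `d` -/
def Top (d : ℕ) (a a' : UniversalEnvelopingAlgebra R L) : Prop := a' ∈ Fil b d ∧ a - a' ∈ Low b d

omit hp in
theorem Top.mul {d e : ℕ} {a a' c c' : UniversalEnvelopingAlgebra R L} (ha : Top b d a a')
    (hc : Top b e c c') : Top b (d + e) (a * c) (a' * c') := by
  refine ⟨Fil_mul b ha.1 hc.1, ?_⟩
  have hc0 : c ∈ Fil b e := by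
    rw [← sub_add_cancel c c']; exact add_mem (Low_le b e hc.2) hc.1
  rw [show a * c - a' * c' = (a - a') * c + a' * (c - c') by noncomm_ring]
  exact add_mem (low_mul b ha.2 hc0) (mul_low b ha.1 hc.2)

omit hp in
theorem Top.one : Top b 0 1 1 := ⟨one_mem_Fil b 0, by simp⟩

omit hp in
theorem Top.pow {d : ℕ} {a a' : UniversalEnvelopingAlgebra R L} (h : Top b d a a') :
    ∀ q : ℕ, Top b (q * d) (a ^ q) (a' ^ q)
  | 0 => by simpa using Top.one b
  | q + 1 => by
    rw [pow_succ, pow_succ, Nat.succ_mul]
    exact Top.mul b (Top.pow h q) h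

omit hp in
theorem Top.ofFn : ∀ {m : ℕ} (d : Fin m → ℕ) (g g' : Fin m → UniversalEnvelopingAlgebra R L),
    (∀ i, Top b (d i) (g i) (g' i)) → Top b (∑ i, d i) (List.ofFn g).prod (List.ofFn g').prod
  | 0, _, _, _, _ => by simpa using Top.one b
  | m + 1, d, g, g', h => by
    rw [List.ofFn_succ, List.ofFn_succ, List.prod_cons, List.prod_cons, Fin.sum_univ_succ]
    exact Top.mul b (h 0) (Top.ofFn _ _ _ fun i => h i.succ)

omit hp in
theorem ι_mem_Fil (i : Fin n) : UniversalEnvelopingAlgebra.ι R (b i) ∈ Fil b 1 := by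
  have := P_mem_Fil b (d := 1) (l := [i]) (List.sortedLE_iff_pairwise.2 (List.pairwise_singleton _ i)) le_rfl
  simpa [P] using this

omit hp in
theorem ι_mem_Fil' (x : L) : UniversalEnvelopingAlgebra.ι R x ∈ Fil b 1 := by
  simpa using ι_mul_mem b x (one_mem_Fil b 0)

/-! ### exponent vectors -/

omit hp in
theorem count_flatMap_replicate (c : Fin n → ℕ) (i : Fin n) :
    ((List.finRange n).flatMap fun j => List.replicate (c j) j).count i = c i := by
  rw [List.count_flatMap, ← List.ofFn_eq_map, List.sum_ofFn, Finset.sum_eq_single i]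
  · simp
  · intro j _ hj
    simp [List.count_replicate, hj]
  · simp

/-- the sorted list with given multiplicities -/
def toL (c : Fin n → ℕ) : List (Fin n) := (List.finRange n).flatMap fun j => List.replicate (c j) j

omit hp in
theorem sorted_toL (c : Fin n → ℕ) : (toL c).SortedLE := by
  rw [List.sortedLE_iff_pairwise, toL, List.pairwise_flatMap]
  refine ⟨fun j _ => List.pairwise_replicate.2 (Or.inr le_rfl), ?_⟩
  refine (List.pairwise_lt_finRange n).imp fun {i j} hij x hx y hy => ?_
  rw [List.eq_of_mem_replicate hx, List.eq_of_mem_replicate hy]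
  exact hij.le

omit hp in
theorem length_toL (c : Fin n → ℕ) : (toL c).length = ∑ i, c i := by
  rw [toL, List.length_flatMap, ← List.ofFn_eq_map, List.sum_ofFn]
  simp

/-- exponent vectors and sorted lists -/
def expEquiv : (Fin n → ℕ) ≃ {l : List (Fin n) // l.SortedLE} where
  toFun c := ⟨toL c, sorted_toL c⟩
  invFun l := fun i => l.1.count i
  left_inv c := funext (count_flatMap_replicate c)
  right_inv l := by
    apply Subtype.ext
    refine List.Perm.eq_of_pairwise (fun _ _ _ _ h1 h2 => le_antisymm h1 h2)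
      (List.sortedLE_iff_pairwise.1 (sorted_toL _)) (List.sortedLE_iff_pairwise.1 l.2) ?_
    exact List.perm_iff_count.2 fun i => count_flatMap_replicate _ i

omit hp in
theorem P_toL (c : Fin n → ℕ) :
    P b (toL c) = (List.ofFn fun i => UniversalEnvelopingAlgebra.ι R (b i) ^ c i).prod := by
  rw [P, toL, List.map_flatMap, List.flatMap_def, List.prod_flatten, List.map_map, List.ofFn_eq_map]
  congr 1
  refine List.map_congr_left fun i _ => ?_
  simp [List.map_replicate, List.prod_replicate]

/-! ### central elements -/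

variable (φ : PLie.PMap R p L)

/-- `x ^ p - φ x` in `U(L)` -/
noncomputable def zz (x : L) : UniversalEnvelopingAlgebra R L :=
  UniversalEnvelopingAlgebra.ι R x ^ p - UniversalEnvelopingAlgebra.ι R (φ x)

include b in
theorem zz_central (x : L) (a : UniversalEnvelopingAlgebra R L) : zz φ x * a = a * zz φ x := by
  have hL : ∀ y : L, zz φ x * UniversalEnvelopingAlgebra.ι R y = UniversalEnvelopingAlgebra.ι R y * zz φ x := by
    intro y
    have h1 := map_ad_pow_assoc (p := p) (UniversalEnvelopingAlgebra.ι R) x y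
    rw [← φ.ad_map, LieAlgebra.ad_apply, LieHom.map_lie, Ring.lie_def] at h1
    simp only [zz, sub_mul, mul_sub]
    linear_combination (norm := abel) -h1
  rw [← psi_phi b a]
  generalize phi b a = v
  induction v using Finsupp.induction_linear with
  | zero => simp
  | add v w hv hw => rw [map_add, mul_add, add_mul, hv, hw]
  | single l r =>
    rw [show psi b (Finsupp.single l r) = r • P b l.1 by simp [psi], mul_smul_comm, smul_mul_assoc]
    congr 1
    refine (Commute.list_prod_right _ _ fun w hw => ?_).eq
    obtain ⟨i, _, rfl⟩ := List.mem_map.1 hw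
    exact hL (b i)

theorem zz_add (x y : L) : zz φ (x + y) = zz φ x + zz φ y := by
  simp only [zz, map_add, φ.map_add, map_sub]
  rw [map_jacobson_assoc (p := p) (UniversalEnvelopingAlgebra.ι R) x y]
  abel

theorem zz_smul (r : R) (x : L) : zz φ (r • x) = r ^ p • zz φ x := by
  simp [zz, φ.map_smul, smul_pow, smul_sub]

theorem zz_mem_span (x : L) : zz φ x ∈ Submodule.span R (Set.range fun i => zz φ (b i)) := by
  induction x using basis_induction b with
  | zero =>
    have := zz_smul φ (0 : R) 0
    rw [zero_smul, zero_pow hp.out.ne_zero, zero_smul] at this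
    rw [this]; exact zero_mem _
  | add x y hx hy => rw [zz_add]; exact add_mem hx hy
  | smul r i => rw [zz_smul]; exact Submodule.smul_mem _ _ (Submodule.subset_span ⟨i, rfl⟩)

theorem top_zz (i : Fin n) : Top b p (zz φ (b i)) (UniversalEnvelopingAlgebra.ι R (b i) ^ p) := by
  have h1 : Top b 1 (UniversalEnvelopingAlgebra.ι R (b i)) (UniversalEnvelopingAlgebra.ι R (b i)) :=
    ⟨ι_mem_Fil b i, by simp⟩
  refine ⟨by simpa using (Top.pow b h1 p).1, ?_⟩
  rw [zz, sub_sub_cancel_left]
  exact neg_mem (Fil_le_Low b hp.out.one_lt (ι_mem_Fil' b _))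

/-- central product of the `zz (b i) ^ q i` -/
noncomputable def Zp (q : Fin n → ℕ) : UniversalEnvelopingAlgebra R L :=
  (List.ofFn fun i => zz φ (b i) ^ q i).prod

/-- ordered monomial -/
noncomputable def Mon (r : Fin n → ℕ) : UniversalEnvelopingAlgebra R L :=
  (List.ofFn fun i => UniversalEnvelopingAlgebra.ι R (b i) ^ r i).prod

omit hp [CharP R p] in
theorem prod_ofFn_split {A : Type*} [Monoid A] : ∀ {m : ℕ} (g h : Fin m → A),
    (∀ i x, Commute (g i) x) →
      (List.ofFn fun i => g i * h i).prod = (List.ofFn g).prod * (List.ofFn h).prod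
  | 0, _, _, _ => by simp
  | m + 1, g, h, hc => by
    simp only [List.ofFn_succ, List.prod_cons]
    rw [prod_ofFn_split (fun i : Fin m => g i.succ) (fun i => h i.succ) fun i x => hc _ x]
    have : Commute (List.ofFn fun i : Fin m => g i.succ).prod (h 0) :=
      Commute.list_prod_left _ _ fun w hw => by
        obtain ⟨i, rfl⟩ := List.mem_ofFn.1 hw
        exact hc _ _
    simp only [mul_assoc]
    congr 1
    rw [← mul_assoc, ← this.eq, mul_assoc]

theorem zz_pow_central (i : Fin n) (q : ℕ) (a : UniversalEnvelopingAlgebra R L) :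
    Commute (zz φ (b i) ^ q) a := (Commute.pow_left (zz_central b φ (b i) a) q)

theorem Zp_mul (q q' : Fin n → ℕ) : Zp b φ q * Zp b φ q' = Zp b φ (q + q') := by
  rw [Zp, Zp, ← prod_ofFn_split _ _ fun i x => zz_pow_central b φ i _ x, Zp]
  simp [pow_add]

theorem Zp_single (i : Fin n) : Zp b φ (Pi.single i 1) = zz φ (b i) := by
  rw [Zp]
  let S := Submonoid.center (UniversalEnvelopingAlgebra R L)
  have hS : ∀ j, zz φ (b j) ∈ S := fun j => Submonoid.mem_center_iff.2 fun a => (zz_central b φ (b j) a).symm
  let w : Fin n → S := fun j => ⟨zz φ (b j), hS j⟩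
  have : (List.ofFn fun j => zz φ (b j) ^ (Pi.single i 1 : Fin n → ℕ) j) =
      (List.ofFn fun j => w j ^ (Pi.single i 1 : Fin n → ℕ) j).map S.subtype := by
    rw [List.map_ofFn]; rfl
  rw [this, ← map_list_prod, List.prod_ofFn, Finset.prod_eq_single i]
  · simp [w]
  · intro j _ hj; simp [hj]
  · simp

/-- new basis vectors -/
noncomputable def NB (c : Fin n → ℕ) : UniversalEnvelopingAlgebra R L :=
  Zp b φ (fun i => c i / p) * Mon b (fun i => c i % p)

theorem top_NB (c : Fin n → ℕ) : Top b (∑ i, c i) (NB b φ c) (P b (toL c)) := by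
  rw [P_toL, NB, Zp, Mon, ← prod_ofFn_split _ _ fun i x => zz_pow_central b φ i _ x]
  refine Top.ofFn b c _ _ fun i => ?_
  have h1 : Top b 1 (UniversalEnvelopingAlgebra.ι R (b i)) (UniversalEnvelopingAlgebra.ι R (b i)) :=
    ⟨ι_mem_Fil b i, by simp⟩
  have := Top.mul b (Top.pow b (top_zz b φ i) (c i / p)) (Top.pow b h1 (c i % p))
  rwa [← pow_mul, ← pow_add, mul_one, mul_comm (c i / p) p, Nat.div_add_mod] at this

omit hp in
/-- PBW basis indexed by exponent vectors -/
noncomputable def ebasis : Module.Basis (Fin n → ℕ) R (UniversalEnvelopingAlgebra R L) :=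
  (basis b).reindex (expEquiv (n := n)).symm

omit hp in
theorem ebasis_apply (c : Fin n → ℕ) : ebasis b c = P b (toL c) := by
  rw [ebasis, Module.Basis.reindex_apply, Equiv.symm_symm, basis_apply]
  rfl

/-- the triangular substitution -/
noncomputable def tri : UniversalEnvelopingAlgebra R L →ₗ[R] UniversalEnvelopingAlgebra R L :=
  (ebasis b).constr R (NB b φ)

theorem tri_sub_low {d : ℕ} {a : UniversalEnvelopingAlgebra R L} (ha : a ∈ Fil b d) :
    tri b φ a - a ∈ Low b d := by
  obtain ⟨v, hv, rfl⟩ := ha
  refine Deg_induction (P := fun v => tri b φ (psi b v) - psi b v ∈ Low b d) hv (by simp) (fun x y hx hy => by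
    rw [map_add, map_add, add_sub_add_comm]; exact add_mem hx hy) (fun r x hx => by
    rw [map_smul, map_smul, ← smul_sub]; exact Submodule.smul_mem _ r hx) fun l hl hln => ?_
  obtain ⟨c, hc⟩ := (expEquiv (n := n)).surjective ⟨l, hl⟩
  have hc' : toL c = l := congrArg Subtype.val hc
  subst hc'
  rw [psi_z b hl, ← ebasis_apply, tri, Module.Basis.constr_basis, ebasis_apply]
  have h := (top_NB b φ c).2
  rw [length_toL] at hln
  rcases Nat.eq_or_lt_of_le hln with e | e
  · rwa [e] at h
  · exact Fil_le_Low b e (Low_le b _ h)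

omit hp in
theorem exists_mem_Fil (a : UniversalEnvelopingAlgebra R L) : ∃ d, a ∈ Fil b d := by
  rw [← psi_phi b a]
  refine ⟨(phi b a).support.sup (fun l => l.1.length), phi b a, ?_, rfl⟩
  exact fun l hl => Finset.le_sup (f := fun l : {l : List (Fin n) // l.SortedLE} => l.1.length) hl

theorem tri_bijective : Function.Bijective (tri b φ) := by
  constructor
  · rw [← LinearMap.ker_eq_bot, LinearMap.ker_eq_bot']
    suffices ∀ d a, a ∈ Fil b d → tri b φ a = 0 → a = 0 by
      intro a ha
      obtain ⟨d, hd⟩ := exists_mem_Fil b a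
      exact this d a hd ha
    intro d
    induction d with
    | zero =>
      intro a ha h0
      have := tri_sub_low b φ ha
      rw [h0, zero_sub, Low, Submodule.mem_bot, neg_eq_zero] at this
      exact this
    | succ d ih =>
      intro a ha h0
      have := tri_sub_low b φ ha
      rw [h0, zero_sub, neg_mem_iff] at this
      exact ih a this h0
  · intro a
    obtain ⟨d, hd⟩ := exists_mem_Fil b a
    show a ∈ LinearMap.range (tri b φ)
    induction d generalizing a with
    | zero =>
      have := tri_sub_low b φ hd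
      rw [Low, Submodule.mem_bot, sub_eq_zero] at this
      exact ⟨a, this⟩
    | succ d ih =>
      have h := tri_sub_low b φ hd
      have : a = tri b φ a - (tri b φ a - a) := by abel
      rw [this]
      exact sub_mem ⟨a, rfl⟩ (ih _ h)

/-- the basis adapted to the centre -/
noncomputable def nbasis : Module.Basis (Fin n → ℕ) R (UniversalEnvelopingAlgebra R L) :=
  (ebasis b).map (LinearEquiv.ofBijective (tri b φ) (tri_bijective b φ))

theorem nbasis_apply (c : Fin n → ℕ) : nbasis b φ c = NB b φ c := by
  simp [nbasis, tri, Module.Basis.map_apply]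

/-- coordinates of the restricted monomials -/
noncomputable def pi0 : UniversalEnvelopingAlgebra R L →ₗ[R] ((Fin n → Fin p) →₀ R) :=
  (nbasis b φ).constr R fun c => if h : ∀ i, c i < p then Finsupp.single (fun i => ⟨c i, h i⟩) 1 else 0

theorem pi0_Mon (r : Fin n → Fin p) : pi0 b φ (Mon b fun i => (r i : ℕ)) = Finsupp.single r 1 := by
  have : Mon b (fun i => (r i : ℕ)) = nbasis b φ (fun i => (r i : ℕ)) := by
    rw [nbasis_apply, NB]
    have h1 : (fun i => (r i : ℕ) / p) = fun _ => 0 := funext fun i => Nat.div_eq_of_lt (r i).2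
    have h2 : (fun i => (r i : ℕ) % p) = fun i => (r i : ℕ) := funext fun i => Nat.mod_eq_of_lt (r i).2
    rw [h1, h2]
    simp [Zp]
  rw [this, pi0, Module.Basis.constr_basis, dif_pos fun i => (r i).2]

theorem pi0_zz_mul (i : Fin n) (a : UniversalEnvelopingAlgebra R L) : pi0 b φ (zz φ (b i) * a) = 0 := by
  have : (pi0 b φ).comp (LinearMap.mulLeft R (zz φ (b i))) = 0 := (nbasis b φ).ext fun c => by
    rw [LinearMap.comp_apply, LinearMap.mulLeft_apply, LinearMap.zero_apply, nbasis_apply, NB, ← mul_assoc,
      ← Zp_single b φ i, Zp_mul]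
    let c' : Fin n → ℕ := fun j => if j = i then c j + p else c j
    have hpos := hp.out.pos
    have h1 : (Pi.single i 1 + fun j => c j / p) = fun j => c' j / p := funext fun j => by
      by_cases h : j = i
      · subst h; simp [c', Nat.add_div_right _ hpos, Nat.add_div_left _ hpos, add_comm]
      · simp [c', h]
    have h2 : (fun j => c j % p) = fun j => c' j % p := funext fun j => by
      by_cases h : j = i
      · subst h; simp [c']
      · simp [c', h]
    rw [h1, h2, show Zp b φ (fun j => c' j / p) * Mon b (fun j => c' j % p) = nbasis b φ c' from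
      (nbasis_apply b φ c').symm, pi0, Module.Basis.constr_basis, dif_neg]
    intro h
    have := h i
    simp [c'] at this
  exact LinearMap.congr_fun this a

/-- section of `pi0` -/
noncomputable def sec : ((Fin n → Fin p) →₀ R) →ₗ[R] UniversalEnvelopingAlgebra R L :=
  Finsupp.linearCombination R fun r => Mon b fun i => (r i : ℕ)

theorem pi0_mul_congr (a x : UniversalEnvelopingAlgebra R L) :
    pi0 b φ (a * sec b (pi0 b φ x)) = pi0 b φ (a * x) := by
  have : (pi0 b φ).comp ((LinearMap.mulLeft R a).comp ((sec b).comp (pi0 b φ))) =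
      (pi0 b φ).comp (LinearMap.mulLeft R a) := (nbasis b φ).ext fun c => by
    simp only [LinearMap.comp_apply, LinearMap.mulLeft_apply]
    conv_lhs => rw [pi0, Module.Basis.constr_basis, ← pi0]
    rw [nbasis_apply, NB]
    split_ifs with h
    · have h1 : (fun i => c i / p) = fun _ => 0 := funext fun i => Nat.div_eq_of_lt (h i)
      have h2 : (fun i => c i % p) = c := funext fun i => Nat.mod_eq_of_lt (h i)
      rw [h1, h2]
      simp [Zp, sec]
    · obtain ⟨i, hi⟩ := not_forall.1 h
      have hq : 1 ≤ c i / p := (Nat.one_le_div_iff hp.out.pos).2 (not_lt.1 hi)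
      let q : Fin n → ℕ := Function.update (fun j => c j / p) i (c i / p - 1)
      have h1 : (fun j => c j / p) = Pi.single i 1 + q := funext fun j => by
        by_cases hj : j = i
        · subst hj; simp [q]; omega
        · simp [q, hj]
      rw [map_zero, mul_zero, map_zero, h1, ← Zp_mul, Zp_single, mul_assoc, ← mul_assoc a,
        ← zz_central b φ (b i) a, mul_assoc, pi0_zz_mul]
  exact LinearMap.congr_fun this x

/-- the action of `U(L)` on restricted monomials -/
noncomputable def resRep : UniversalEnvelopingAlgebra R L →ₐ[R] Module.End R ((Fin n → Fin p) →₀ R) :=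
  AlgHom.ofLinearMap
    { toFun := fun a => (pi0 b φ).comp ((LinearMap.mulLeft R a).comp (sec b))
      map_add' := fun a c => by ext; simp [add_mul]
      map_smul' := fun r a => by ext; simp }
    (by
      ext r : 2
      simp [sec, pi0_Mon])
    (fun a c => LinearMap.ext fun w => by
      simp [pi0_mul_congr, mul_assoc])

theorem resRep_apply (a : UniversalEnvelopingAlgebra R L) (w : (Fin n → Fin p) →₀ R) :
    resRep b φ a w = pi0 b φ (a * sec b w) := rfl

theorem resRep_zz (x : L) : resRep b φ (zz φ x) = 0 := by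
  refine LinearMap.ext fun w => ?_
  rw [resRep_apply, LinearMap.zero_apply]
  refine Submodule.span_induction (p := fun a _ => pi0 b φ (a * sec b w) = 0) ?_ (by simp)
    (fun a c _ _ ha hc => by rw [add_mul, map_add, ha, hc, add_zero])
    (fun r a _ ha => by rw [smul_mul_assoc, map_smul, ha, smul_zero]) (zz_mem_span b φ x)
  rintro _ ⟨i, rfl⟩
  exact pi0_zz_mul b φ i _

/-- descended representation -/
noncomputable def resRep' : Res φ →ₐ[R] Module.End R ((Fin n → Fin p) →₀ R) :=
  RingQuot.liftAlgHom R ⟨resRep b φ, by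
    intro a c h
    cases h with
    | pow x =>
      have h : resRep b φ (zz φ x) = 0 := resRep_zz b φ x
      have h2 : resRep b φ (zz φ x + UniversalEnvelopingAlgebra.ι R (φ x)) = resRep b φ (UniversalEnvelopingAlgebra.ι R (φ x)) := by
        rw [map_add, h, zero_add]
      rw [← h2, zz, sub_add_cancel]⟩

theorem resRep'_quo (a : UniversalEnvelopingAlgebra R L) : resRep' b φ (quo φ a) = resRep b φ a :=
  RingQuot.liftAlgHom_mkAlgHom_apply R _ _ _

/-- restricted monomial -/
noncomputable def rmon (r : Fin n → Fin p) : Res φ := (List.ofFn fun i => rι φ (b i) ^ (r i : ℕ)).prod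

theorem quo_Mon (r : Fin n → Fin p) : quo φ (Mon b fun i => (r i : ℕ)) = rmon b φ r := by
  simp [Mon, rmon, map_list_prod, List.map_ofFn, Function.comp_def, rι_apply]

theorem quo_zz (x : L) : quo φ (zz φ x) = 0 := by
  rw [zz, map_sub, sub_eq_zero]
  exact RingQuot.mkAlgHom_rel R (RRel.pow (φ := φ) x)

theorem quo_sec_pi0 (a : UniversalEnvelopingAlgebra R L) : quo φ (sec b (pi0 b φ a)) = quo φ a := by
  have : (quo φ).toLinearMap.comp ((sec b).comp (pi0 b φ)) = (quo φ).toLinearMap := (nbasis b φ).ext fun c => by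
    simp only [LinearMap.comp_apply, AlgHom.toLinearMap_apply]
    rw [pi0, Module.Basis.constr_basis, nbasis_apply, NB]
    split_ifs with h
    · have h1 : (fun i => c i / p) = fun _ => 0 := funext fun i => Nat.div_eq_of_lt (h i)
      have h2 : (fun i => c i % p) = c := funext fun i => Nat.mod_eq_of_lt (h i)
      rw [h1, h2]
      simp [Zp, sec]
    · obtain ⟨i, hi⟩ := not_forall.1 h
      have hq : 1 ≤ c i / p := (Nat.one_le_div_iff hp.out.pos).2 (not_lt.1 hi)
      let q : Fin n → ℕ := Function.update (fun j => c j / p) i (c i / p - 1)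
      have h1 : (fun j => c j / p) = Pi.single i 1 + q := funext fun j => by
        by_cases hj : j = i
        · subst hj; simp [q]; omega
        · simp [q, hj]
      simp [h1, ← Zp_mul, Zp_single, quo_zz]
  exact LinearMap.congr_fun this a

/-- the restricted PBW basis -/
noncomputable def rbasis : Module.Basis (Fin n → Fin p) R (Res φ) :=
  Module.Basis.ofRepr (LinearEquiv.ofLinearMap
    ((LinearMap.applyₗ (Finsupp.single (fun _ => (⟨0, hp.out.pos⟩ : Fin p)) (1 : R) :
      (Fin n → Fin p) →₀ R)).comp (resRep' b φ).toLinearMap)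
    ((quo φ).toLinearMap.comp (sec b))
    (LinearMap.ext fun w => by
      simp only [LinearMap.comp_apply, AlgHom.toLinearMap_apply, LinearMap.applyₗ_apply_apply, resRep'_quo,
        resRep_apply, LinearMap.id_coe, id_eq]
      rw [show sec b (Finsupp.single (fun _ => (⟨0, hp.out.pos⟩ : Fin p)) (1 : R)) = 1 by simp [sec, Mon],
        mul_one]
      induction w using Finsupp.induction_linear with
      | zero => simp
      | add v w hv hw => rw [map_add, map_add, hv, hw]
      | single r a => simp [sec, pi0_Mon])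
    (LinearMap.ext fun x => by
      obtain ⟨a, rfl⟩ := quo_surjective φ x
      simp only [LinearMap.comp_apply, AlgHom.toLinearMap_apply, LinearMap.applyₗ_apply_apply, resRep'_quo,
        resRep_apply, LinearMap.id_coe, id_eq]
      rw [show sec b (Finsupp.single (fun _ => (⟨0, hp.out.pos⟩ : Fin p)) (1 : R)) = 1 by simp [sec, Mon],
        mul_one, quo_sec_pi0]))

theorem rbasis_apply (r : Fin n → Fin p) : rbasis b φ r = rmon b φ r := by
  simp [rbasis, sec, quo_Mon]

omit hp in
/-- exponent vector of a single generator -/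
def unit1 (hp2 : 1 < p) (i : Fin n) : Fin n → Fin p :=
  fun j => if j = i then ⟨1, hp2⟩ else ⟨0, zero_lt_one.trans hp2⟩

theorem rmon_unit1 (i : Fin n) : rmon b φ (unit1 hp.out.one_lt i) = rι φ (b i) := by
  rw [rmon]
  have key : ∀ {m : ℕ} (g : Fin m → Res φ) (i : Fin m),
      (List.ofFn fun j => g j ^ ((if j = i then 1 else 0 : ℕ))).prod = g i := by
    intro m
    induction m with
    | zero => exact fun g i => i.elim0
    | succ m ih =>
      intro g i
      rw [List.ofFn_succ, List.prod_cons]
      refine Fin.cases ?_ (fun j => ?_) i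
      · simp [Fin.succ_ne_zero]
      · have := ih (fun l => g l.succ) j
        simp [(Fin.succ_ne_zero j).symm, Fin.succ_inj] at this ⊢
        exact this
  have h2 := key (fun j => rι φ (b j)) i
  refine Eq.trans ?_ h2
  refine congrArg List.prod (congrArg List.ofFn (funext fun j => ?_))
  unfold unit1
  split_ifs <;> rfl

include b in
theorem rι_injective : Function.Injective (rι φ) := by
  intro x y h
  apply b.repr.injective
  have key : ∀ z : L, (rbasis b φ).repr (rι φ z) =
      Finsupp.mapDomain (unit1 hp.out.one_lt) (b.repr z) := by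
    intro z
    have : (rbasis b φ).repr.toLinearMap.comp (rι φ : L →ₗ[R] Res φ) =
        (Finsupp.lmapDomain R R (unit1 hp.out.one_lt)).comp b.repr.toLinearMap := b.ext fun i => by
      simp [← rmon_unit1, ← rbasis_apply]
    exact LinearMap.congr_fun this z
  refine Finsupp.mapDomain_injective (fun i j hij => ?_) ((key x).symm.trans ((congrArg _ h).trans (key y)))
  by_contra hne
  have := congrFun hij i
  simp [unit1, hne] at this

end Basis

end Groth.Agent.PBW
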