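import Mathlib
import Groth.Agent.PBW.Restricted

/-!
# The Hopf algebra structure on the restricted enveloping algebra
-/

universe u v

open TensorProduct

namespace Groth.Agent.PBW

attribute [local instance] LieRing.ofAssociativeRing

variable {R : Type u} [CommRing R] {p : ℕ} [hp : Fact p.Prime] [CharP R p]
  {L : Type v} [LieRing L] [LieAlgebra R L] (φ : PLie.PMap R p L)

omit hp in
theorem castP_zero (A : Type*) [Ring A] [Algebra R A] : (p : A) = 0 := by
  rw [← map_natCast (algebraMap R A), CharP.cast_eq_zero, map_zero]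

theorem add_pow_char' {A : Type*} [Ring A] [Algebra R A] {x y : A} (h : Commute x y) :
    (x + y) ^ p = x ^ p + y ^ p := by
  have h1 := sub_pow_self (p := p) (castP_zero (R := R) A) (h.neg_right)
  rw [sub_neg_eq_add] at h1
  rw [h1]
  rcases hp.out.eq_two_or_odd' with e | e
  · subst e
    have h2 : (2 : A) = 0 := by exact_mod_cast castP_zero (R := R) (p := 2) A
    rw [neg_sq, sub_eq_iff_eq_add, add_assoc, ← two_mul, h2, zero_mul, add_zero]
  · rw [e.neg_pow, sub_neg_eq_add]

theorem neg_pow_char' {A : Type*} [Ring A] [Algebra R A] (x : A) : (-x) ^ p = -(x ^ p) := by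
  have := add_pow_char' (R := R) (p := p) ((Commute.refl x).neg_right)
  rw [add_neg_cancel, zero_pow hp.out.ne_zero] at this
  exact eq_neg_of_add_eq_zero_right this.symm

/-- `x ↦ x ⊗ 1 + 1 ⊗ x` -/
noncomputable def prim : L →ₗ⁅R⁆ (Res φ ⊗[R] Res φ) where
  toFun x := rι φ x ⊗ₜ[R] (1 : Res φ) + (1 : Res φ) ⊗ₜ[R] rι φ x
  map_add' x y := by simp only [map_add, TensorProduct.add_tmul, TensorProduct.tmul_add]; abel
  map_smul' c x := by
    simp only [map_smul, RingHom.id_apply, smul_add, TensorProduct.smul_tmul', TensorProduct.tmul_smul]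
  map_lie' {x y} := by
    simp only [rι_lie, Ring.lie_def, TensorProduct.sub_tmul, TensorProduct.tmul_sub, add_mul, mul_add,
      Algebra.TensorProduct.tmul_mul_tmul, one_mul, mul_one]
    abel

theorem prim_pow (x : L) : prim φ (φ x) = prim φ x ^ p := by
  show rι φ (φ x) ⊗ₜ[R] (1 : Res φ) + (1 : Res φ) ⊗ₜ[R] rι φ (φ x) =
    (rι φ x ⊗ₜ[R] (1 : Res φ) + (1 : Res φ) ⊗ₜ[R] rι φ x) ^ p
  rw [add_pow_char' (R := R) (show Commute (rι φ x ⊗ₜ[R] (1 : Res φ)) ((1 : Res φ) ⊗ₜ[R] rι φ x) by
    simp [Commute, SemiconjBy]), Algebra.TensorProduct.tmul_pow, Algebra.TensorProduct.tmul_pow, one_pow, rι_pow]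

noncomputable def comulHom : Res φ →ₐ[R] Res φ ⊗[R] Res φ := rlift φ (prim φ) (prim_pow φ)

theorem comulHom_rι (x : L) :
    comulHom φ (rι φ x) = rι φ x ⊗ₜ[R] (1 : Res φ) + (1 : Res φ) ⊗ₜ[R] rι φ x := rlift_rι φ _ _ x

noncomputable def counitHom : Res φ →ₐ[R] R :=
  rlift φ (0 : L →ₗ⁅R⁆ R) fun x => by simp [zero_pow hp.out.ne_zero]

@[simp] theorem counitHom_rι (x : L) : counitHom φ (rι φ x) = 0 := rlift_rι φ _ _ x

noncomputable instance instBialgebraRes : Bialgebra R (Res φ) := Bialgebra.ofAlgHom (comulHom φ) (counitHom φ)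
  (res_hom_ext φ fun x => by
    simp [comulHom_rι, TensorProduct.add_tmul, TensorProduct.tmul_add, Algebra.TensorProduct.one_def]
    abel)
  (res_hom_ext φ fun x => by
    simp [comulHom_rι, TensorProduct.tmul_add, TensorProduct.add_tmul])
  (res_hom_ext φ fun x => by
    simp [comulHom_rι, TensorProduct.tmul_add, TensorProduct.add_tmul])

theorem comul_rι (x : L) :
    Coalgebra.comul (R := R) (rι φ x) = rι φ x ⊗ₜ[R] (1 : Res φ) + (1 : Res φ) ⊗ₜ[R] rι φ x := comulHom_rι φ x

theorem counit_rι (x : L) : Coalgebra.counit (R := R) (rι φ x) = 0 := counitHom_rι φ x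

theorem comulAlgHom_res : Bialgebra.comulAlgHom R (Res φ) = comulHom φ := rfl

instance instIsCocommRes : Coalgebra.IsCocomm R (Res φ) where
  comm_comp_comul := by
    have : (Algebra.TensorProduct.comm R (Res φ) (Res φ)).toAlgHom.comp (comulHom φ) = comulHom φ :=
      res_hom_ext φ fun x => by simp [comulHom_rι, add_comm]
    exact congrArg AlgHom.toLinearMap this

/-- `x ↦ -x` into the opposite algebra -/
noncomputable def negOp : L →ₗ⁅R⁆ (Res φ)ᵐᵒᵖ where
  toFun x := MulOpposite.op (-rι φ x)
  map_add' x y := by rw [map_add, neg_add, MulOpposite.op_add]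
  map_smul' c x := by simp [← MulOpposite.op_smul]
  map_lie' {x y} := by
    apply MulOpposite.unop_injective
    simp only [rι_lie, Ring.lie_def, MulOpposite.unop_op, MulOpposite.unop_sub, MulOpposite.unop_mul]
    noncomm_ring

noncomputable def antiHom : Res φ →ₐ[R] (Res φ)ᵐᵒᵖ := rlift φ (negOp φ) fun x => by
  show MulOpposite.op (-rι φ (φ x)) = MulOpposite.op (-rι φ x) ^ p
  rw [← MulOpposite.op_pow, neg_pow_char' (R := R), rι_pow]

/-- the antipode -/
noncomputable def anti : Res φ →ₗ[R] Res φ :=
  (MulOpposite.opLinearEquiv R).symm.toLinearMap ∘ₗ (antiHom φ).toLinearMap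

theorem anti_mul (a c : Res φ) : anti φ (a * c) = anti φ c * anti φ a := by simp [anti]

theorem anti_one : anti φ 1 = 1 := by simp [anti]

theorem anti_rι (x : L) : anti φ (rι φ x) = -rι φ x := by
  simp [anti, antiHom, rlift_rι]
  rfl

/-- generated by the image of `L` -/
theorem res_induction {P : Res φ → Prop} (one : P 1) (zero : P 0) (add : ∀ a c, P a → P c → P (a + c))
    (smul : ∀ (r : R) a, P a → P (r • a)) (mul : ∀ a x, P a → P (a * rι φ x)) (a : Res φ) : P a := by
  have key : ∀ t : TensorAlgebra R L, ∀ a : Res φ, P a →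
      P (a * quo φ (UniversalEnvelopingAlgebra.mkAlgHom R L t)) := by
    intro t
    induction t using TensorAlgebra.induction with
    | algebraMap r =>
      intro a ha
      rw [AlgHom.commutes, AlgHom.commutes, ← Algebra.commutes, ← Algebra.smul_def]
      exact smul r a ha
    | ι x => intro a ha; exact mul a x ha
    | mul s t hs ht => intro a ha; rw [map_mul, map_mul, ← mul_assoc]; exact ht _ (hs a ha)
    | add s t hs ht => intro a ha; rw [map_add, map_add, mul_add]; exact add _ _ (hs a ha) (ht a ha)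
  obtain ⟨u, rfl⟩ := quo_surjective φ a
  obtain ⟨t, rfl⟩ := (RingCon.mk'_surjective (c := UniversalEnvelopingAlgebra.ringCon R L)) u
  have h := key t 1 one
  rw [one_mul] at h
  exact h

theorem anti_axiom (a : Res φ) :
    (LinearMap.mul' R (Res φ) ((anti φ).rTensor (Res φ) (Coalgebra.comul a)) =
      algebraMap R (Res φ) (Coalgebra.counit a)) ∧
    (LinearMap.mul' R (Res φ) ((anti φ).lTensor (Res φ) (Coalgebra.comul a)) =
      algebraMap R (Res φ) (Coalgebra.counit a)) := by
  induction a using res_induction φ with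
  | one => simp [Bialgebra.comul_one, Algebra.TensorProduct.one_def, anti_one]
  | zero => simp
  | add a c ha hc => simp [ha.1, ha.2, hc.1, hc.2]
  | smul r a ha =>
    constructor <;> simp only [map_smul, ha.1, ha.2] <;> simp [Algebra.smul_def]
  | mul a x ha =>
    rw [Bialgebra.comul_mul, comul_rι, Bialgebra.counit_mul, counit_rι, mul_zero, map_zero]
    constructor
    · have : ∀ t : Res φ ⊗[R] Res φ, LinearMap.mul' R (Res φ) ((anti φ).rTensor (Res φ)
          (t * (rι φ x ⊗ₜ[R] (1 : Res φ) + (1 : Res φ) ⊗ₜ[R] rι φ x))) =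
          LinearMap.mul' R (Res φ) ((anti φ).rTensor (Res φ) t) * rι φ x -
            rι φ x * LinearMap.mul' R (Res φ) ((anti φ).rTensor (Res φ) t) := by
        intro t
        induction t using TensorProduct.induction_on with
        | zero => simp
        | tmul c d =>
          simp [mul_add, Algebra.TensorProduct.tmul_mul_tmul, anti_mul, anti_rι]
          noncomm_ring
        | add t t' ht ht' =>
          rw [add_mul t t', map_add, map_add, ht, ht', map_add, map_add, add_mul, mul_add]
          abel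
      rw [this, ha.1, Algebra.commutes, sub_self]
    · have : ∀ t : Res φ ⊗[R] Res φ, LinearMap.mul' R (Res φ) ((anti φ).lTensor (Res φ)
          (t * (rι φ x ⊗ₜ[R] (1 : Res φ) + (1 : Res φ) ⊗ₜ[R] rι φ x))) = 0 := by
        intro t
        induction t using TensorProduct.induction_on with
        | zero => simp
        | tmul c d =>
          simp [mul_add, Algebra.TensorProduct.tmul_mul_tmul, anti_mul, anti_rι]
          noncomm_ring
        | add t t' ht ht' => rw [add_mul, map_add, map_add, ht, ht', add_zero]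
      exact this _

noncomputable instance instHopfRes : HopfAlgebra R (Res φ) where
  toBialgebra := instBialgebraRes φ
  antipode := anti φ
  mul_antipode_rTensor_comul := LinearMap.ext fun a => (anti_axiom φ a).1
  mul_antipode_lTensor_comul := LinearMap.ext fun a => (anti_axiom φ a).2

section Primitive

variable {n : ℕ} (b : Module.Basis (Fin n) R L)

omit hp [CharP R p] in
theorem prod_ofFn_sum {A : Type*} [Semiring A] : ∀ {m : ℕ} (r : Fin m → ℕ) (g : Fin m → ℕ → A),
    (List.ofFn fun i => ∑ j ∈ Finset.range (r i), g i j).prod =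
      ∑ s ∈ Fintype.piFinset fun i => Finset.range (r i), (List.ofFn fun i => g i (s i)).prod
  | 0, r, g => by simp
  | m + 1, r, g => by
    rw [List.ofFn_succ, List.prod_cons, prod_ofFn_sum (fun i : Fin m => r i.succ) fun i => g i.succ,
      Finset.sum_mul_sum, ← Finset.sum_product']
    refine Finset.sum_bij' (fun q _ => Fin.cons q.1 q.2) (fun s _ => (s 0, fun i => s i.succ)) ?_ ?_ ?_ ?_ ?_
    · intro q hq
      simp only [Finset.mem_product, Fintype.mem_piFinset] at hq ⊢
      exact Fin.cases (by simpa using hq.1) (fun i => by simpa using hq.2 i)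
    · intro s hs
      simp only [Finset.mem_product, Fintype.mem_piFinset] at hs ⊢
      exact ⟨hs 0, fun i => hs i.succ⟩
    · intro q _; simp
    · intro s _; exact Fin.cons_self_tail s
    · intro q _; rw [List.ofFn_succ, List.prod_cons]; simp

omit hp [CharP R p] in
theorem prod_ofFn_tmul {A : Type*} [Ring A] [Algebra R A] : ∀ {m : ℕ} (g h : Fin m → A),
    (List.ofFn fun i => g i ⊗ₜ[R] h i).prod = (List.ofFn g).prod ⊗ₜ[R] (List.ofFn h).prod
  | 0, _, _ => by simp [Algebra.TensorProduct.one_def]
  | m + 1, g, h => by simp [List.ofFn_succ, prod_ofFn_tmul, Algebra.TensorProduct.tmul_mul_tmul]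

omit hp [CharP R p] in
theorem prod_ofFn_smul {A : Type*} [Ring A] [Algebra R A] : ∀ {m : ℕ} (c : Fin m → R) (g : Fin m → A),
    (List.ofFn fun i => c i • g i).prod = (∏ i, c i) • (List.ofFn g).prod
  | 0, _, _ => by simp
  | m + 1, c, g => by
    simp [List.ofFn_succ, prod_ofFn_smul, Fin.prod_univ_succ, smul_smul, mul_comm]

theorem comul_rmon (r : Fin n → Fin p) :
    Coalgebra.comul (R := R) (rmon b φ r) =
      ∑ s ∈ Fintype.piFinset fun i => Finset.range ((r i : ℕ) + 1),
        (∏ i, ((r i : ℕ).choose (s i) : R)) •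
          ((List.ofFn fun i => rι φ (b i) ^ s i).prod ⊗ₜ[R]
            (List.ofFn fun i => rι φ (b i) ^ ((r i : ℕ) - s i)).prod) := by
  rw [← Bialgebra.comulAlgHom_apply, rmon, map_list_prod, List.map_ofFn]
  have : (fun i => Bialgebra.comulAlgHom R (Res φ) (rι φ (b i) ^ (r i : ℕ))) = fun i =>
      ∑ j ∈ Finset.range ((r i : ℕ) + 1), ((r i : ℕ).choose j : R) •
        ((rι φ (b i) ^ j) ⊗ₜ[R] (rι φ (b i) ^ ((r i : ℕ) - j))) := by
    funext i
    rw [map_pow, comulAlgHom_res, comulHom_rι, Commute.add_pow (by simp [Commute, SemiconjBy])]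
    refine Finset.sum_congr rfl fun j _ => ?_
    rw [Algebra.TensorProduct.tmul_pow, Algebra.TensorProduct.tmul_pow, Algebra.TensorProduct.tmul_mul_tmul,
      one_pow, one_pow, one_mul, mul_one, Nat.cast_smul_eq_nsmul, nsmul_eq_mul']
  rw [show ((Bialgebra.comulAlgHom R (Res φ)) ∘ fun i => rι φ (b i) ^ (r i : ℕ)) = _ from this, prod_ofFn_sum]
  refine Finset.sum_congr rfl fun s _ => ?_
  rw [← prod_ofFn_tmul]
  exact prod_ofFn_smul (fun i => ((r i : ℕ).choose (s i) : R))
    (fun i => (rι φ (b i) ^ s i) ⊗ₜ[R] (rι φ (b i) ^ ((r i : ℕ) - s i)))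

include b in
theorem mem_range_of_primitive [IsDomain R] {w : Res φ}
    (hw : Coalgebra.comul (R := R) w = w ⊗ₜ[R] (1 : Res φ) + (1 : Res φ) ⊗ₜ[R] w) : ∃ x, rι φ x = w := by
  classical
  let B := rbasis b φ
  let o : Fin n → Fin p := fun _ => ⟨0, hp.out.pos⟩
  have ho : B o = 1 := by simp [B, rbasis_apply, rmon, o]
  have hB : ∀ (m : Fin n → ℕ) (hm : ∀ i, m i < p),
      (List.ofFn fun i => rι φ (b i) ^ m i).prod = B fun i => ⟨m i, hm i⟩ := fun m hm => by
    simp [B, rbasis_apply, rmon]
  let T := B.tensorProduct B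
  have hrep : ∀ r s t : Fin n → Fin p, T.repr (Coalgebra.comul (R := R) (B r)) (s, t) =
      if (∀ i, (s i : ℕ) + (t i : ℕ) = (r i : ℕ)) then ∏ i, ((r i : ℕ).choose (s i : ℕ) : R) else 0 := by
    intro r s t
    simp only [B, rbasis_apply, comul_rmon, map_sum, map_smul, Finsupp.coe_finsetSum, Finset.sum_apply,
      Finsupp.smul_apply]
    have hterm : ∀ m ∈ Fintype.piFinset (fun i => Finset.range ((r i : ℕ) + 1)),
        T.repr ((List.ofFn fun i => rι φ (b i) ^ m i).prod ⊗ₜ[R]
          (List.ofFn fun i => rι φ (b i) ^ ((r i : ℕ) - m i)).prod) (s, t) =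
          if (∀ i, (s i : ℕ) = m i) ∧ (∀ i, (t i : ℕ) = (r i : ℕ) - m i) then 1 else 0 := by
      intro m hm
      simp only [Fintype.mem_piFinset, Finset.mem_range] at hm
      have h1 : ∀ i, m i < p := fun i => lt_of_le_of_lt (Nat.lt_succ_iff.1 (hm i)) (r i).2
      have h2 : ∀ i, (r i : ℕ) - m i < p := fun i => lt_of_le_of_lt (Nat.sub_le _ _) (r i).2
      rw [hB m h1, hB (fun i => (r i : ℕ) - m i) h2, ← Module.Basis.tensorProduct_apply,
        Module.Basis.repr_self, Finsupp.single_apply]
      refine if_congr ?_ rfl rfl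
      simp [Prod.ext_iff, funext_iff, Fin.ext_iff, eq_comm]
    rw [Finset.sum_congr rfl fun m hm => by rw [hterm m hm]]
    by_cases h : ∀ i, (s i : ℕ) + (t i : ℕ) = (r i : ℕ)
    · rw [if_pos h, Finset.sum_eq_single (fun i => (s i : ℕ))]
      · rw [if_pos ⟨fun i => rfl, fun i => by have := h i; show (t i : ℕ) = (r i : ℕ) - (s i : ℕ); omega⟩, smul_eq_mul, mul_one]
      · intro m _ hm
        rw [if_neg fun e => hm (funext fun i => (e.1 i).symm), smul_zero]
      · intro hm
        exact absurd (Fintype.mem_piFinset.2 fun i => Finset.mem_range.2 (by have := h i; omega)) hm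
    · rw [if_neg h, Finset.sum_eq_zero]
      intro m hm
      simp only [Fintype.mem_piFinset, Finset.mem_range] at hm
      rw [if_neg, smul_zero]
      exact fun e => h fun i => by have := e.1 i; have := e.2 i; have := hm i; omega
  have hsum : ∀ r, (∀ i, r ≠ unit1 hp.out.one_lt i) → B.repr w r = 0 := by
    intro r hr
    by_cases hr0 : r = o
    · subst hr0
      have h2 := congrArg (fun z => T.repr z (o, o)) hw
      simp only [map_add, Finsupp.add_apply, T, ← ho] at h2
      conv_lhs at h2 => rw [← B.sum_repr w]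
      simp only [map_sum, map_smul, Finsupp.coe_finsetSum, Finset.sum_apply, Finsupp.smul_apply] at h2
      rw [Finset.sum_eq_single o] at h2
      · rw [show (B.tensorProduct B) = T from rfl, hrep, if_pos (fun i => by simp [o])] at h2
        simp [o, T, Module.Basis.tensorProduct_repr_tmul_apply, B] at h2 ⊢
        exact h2
      · intro c _ hc
        rw [show (B.tensorProduct B) = T from rfl, hrep, if_neg, smul_zero]
        intro e
        exact hc (funext fun i => Fin.ext (by simpa [o] using (e i).symm))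
      · simp
    obtain ⟨i, hi⟩ : ∃ i, (r i : ℕ) ≠ 0 := by
      by_contra hc
      push Not at hc
      exact hr0 (funext fun i => Fin.ext (hc i))
    let s := unit1 (n := n) hp.out.one_lt i
    let t : Fin n → Fin p := fun j => ⟨(r j : ℕ) - (s j : ℕ), lt_of_le_of_lt (Nat.sub_le _ _) (r j).2⟩
    have hs0 : s ≠ o := fun e => by simpa [s, o, unit1] using congrFun e i
    have ht0 : t ≠ o := by
      intro e
      apply hr i
      funext j
      have := congrArg Fin.val (congrFun e j)
      simp only [t, o] at this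
      apply Fin.ext
      by_cases hj : j = i
      · subst hj; simp [s, unit1] at this ⊢; omega
      · simp [s, unit1, hj] at this ⊢; omega
    have hle : ∀ j, (s j : ℕ) ≤ (r j : ℕ) := fun j => by
      by_cases hj : j = i
      · subst hj; simp [s, unit1]; omega
      · simp [s, unit1, hj]
    have h2 := congrArg (fun z => T.repr z (s, t)) hw
    simp only [map_add, Finsupp.add_apply, T, ← ho] at h2
    conv_lhs at h2 => rw [← B.sum_repr w]
    simp only [map_sum, map_smul, Finsupp.coe_finsetSum, Finset.sum_apply, Finsupp.smul_apply] at h2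
    rw [Finset.sum_eq_single r] at h2
    · rw [show (B.tensorProduct B) = T from rfl, hrep,
        if_pos (fun j => Nat.add_sub_cancel' (hle j))] at h2
      have hz : ∀ q : Fin n → Fin p, q ≠ o → B.repr (B o) q = 0 := fun q hq => by
        simp [Finsupp.single_apply, Ne.symm hq]
      simp only [T, Module.Basis.tensorProduct_repr_tmul_apply, hz s hs0, hz t ht0, smul_eq_mul, zero_mul, mul_zero, add_zero] at h2
      rw [Finset.prod_eq_single i (fun j _ hj => by simp [s, unit1, hj]) (by simp)] at h2
      simp only [s, unit1, if_true, Nat.choose_one_right] at h2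
      refine (mul_eq_zero.1 h2).resolve_right fun e => hi ?_
      rw [CharP.cast_eq_zero_iff R p] at e
      exact Nat.eq_zero_of_dvd_of_lt e (r i).2
    · intro c _ hc
      rw [show (B.tensorProduct B) = T from rfl, hrep, if_neg, smul_zero]
      intro e
      exact hc (funext fun j => Fin.ext (by have := e j; have := hle j; simp only [t] at *; omega))
    · simp
  refine ⟨∑ i, B.repr w (unit1 hp.out.one_lt i) • b i, ?_⟩
  apply B.repr.injective
  have e1 : rι φ (∑ i, B.repr w (unit1 hp.out.one_lt i) • b i) =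
      ∑ i, B.repr w (unit1 hp.out.one_lt i) • B (unit1 hp.out.one_lt i) := by
    rw [← LieHom.coe_toLinearMap, map_sum]
    simp [B, rbasis_apply, rmon_unit1]
  rw [e1, map_sum]
  ext r
  simp only [map_smul, Module.Basis.repr_self, Finsupp.smul_single, smul_eq_mul, mul_one, Finsupp.coe_finsetSum,
    Finset.sum_apply, Finsupp.single_apply]
  by_cases h : ∃ i, r = unit1 hp.out.one_lt i
  · obtain ⟨i, rfl⟩ := h
    rw [Finset.sum_eq_single i, if_pos rfl]
    · intro j _ hj
      rw [if_neg]
      intro e
      have := congrFun e j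
      simp [unit1, hj] at this
    · simp
  · push Not at h
    rw [hsum r h, Finset.sum_eq_zero fun i _ => if_neg fun e => h i e.symm]

end Primitive

end Groth.Agent.PBW
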