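import Mathlib
import Groth.Agent.PBW.RestrictedHopf
import Groth.Prelude.Def_CartDual

/-!
# The coordinate Hopf algebra of the height one group of a restricted Lie algebra
-/

universe u v

open TensorProduct

namespace Groth.Agent.PBW

attribute [local instance] LieRing.ofAssociativeRing

variable {R : Type u} [CommRing R] {p : ℕ} [hp : Fact p.Prime] [CharP R p]
  {L : Type v} [LieRing L] [LieAlgebra R L] {φ : PLie.PMap R p L}

theorem conv_apply (f g : CartDual.D R (Res φ)) (a : Res φ) :
    (f * g) a = LinearMap.mul' R R (TensorProduct.map f.ofConv g.ofConv (Coalgebra.comul (R := R) a)) := by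
  rw [CartDual.coe_apply, LinearMap.convMul_def]
  rfl

theorem conv_one (f g : CartDual.D R (Res φ)) : (f * g) 1 = f 1 * g 1 := by
  rw [conv_apply, Bialgebra.comul_one, Algebra.TensorProduct.one_def]
  simp [CartDual.coe_apply]

/-- translation by `rι x` -/
noncomputable def transl (φ : PLie.PMap R p L) (x : L) : CartDual.D R (Res φ) →ₗ[R] CartDual.D R (Res φ) :=
  (CartDual.toDual R (Res φ)).symm.toLinearMap ∘ₗ (LinearMap.mulRight R (rι φ x)).dualMap ∘ₗ
    (CartDual.toDual R (Res φ)).toLinearMap

theorem transl_apply (x : L) (f : CartDual.D R (Res φ)) (a : Res φ) : transl φ x f a = f (a * rι φ x) := rfl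

theorem transl_conv (x : L) (f g : CartDual.D R (Res φ)) (a : Res φ) :
    transl φ x (f * g) a = (transl φ x f * g) a + (f * transl φ x g) a := by
  rw [transl_apply, conv_apply, conv_apply, conv_apply, Bialgebra.comul_mul, comul_rι]
  generalize (Coalgebra.comul (R := R) a) = t
  induction t using TensorProduct.induction_on with
  | zero => simp
  | tmul c d =>
    simp [mul_add, Algebra.TensorProduct.tmul_mul_tmul]
    rfl
  | add t t' ht ht' =>
    rw [add_mul, map_add, map_add, ht, ht', map_add, map_add, map_add, map_add]
    abel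

theorem transl_pow_apply (x : L) : ∀ (m : ℕ) (f : CartDual.D R (Res φ)) (a : Res φ),
    (transl φ x ^ m) f a = f (a * rι φ x ^ m)
  | 0, f, a => by simp
  | m + 1, f, a => by
    rw [pow_succ, Module.End.mul_apply, transl_pow_apply x m, transl_apply, pow_succ, mul_assoc]

/-- the derivation attached to `x` -/
noncomputable def translD (φ : PLie.PMap R p L) [Coalgebra.IsCocomm R (Res φ)] (x : L) :
    Derivation R (CartDual.D R (Res φ)) (CartDual.D R (Res φ)) :=
  Derivation.mk' (transl φ x) fun f g => by
    apply WithConv.ext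
    apply LinearMap.ext
    intro a
    show transl φ x (f * g) a = (f • transl φ x g + g • transl φ x f) a
    rw [transl_conv, smul_eq_mul, smul_eq_mul, add_comm, mul_comm g]
    rfl

theorem translD_apply [Coalgebra.IsCocomm R (Res φ)] (x : L) (f : CartDual.D R (Res φ)) (a : Res φ) :
    translD φ x f a = f (a * rι φ x) := rfl

theorem pow_char_eq_zero [Coalgebra.IsCocomm R (Res φ)] (f : CartDual.D R (Res φ)) (h : f 1 = 0) :
    f ^ p = 0 := by
  apply WithConv.ext
  apply LinearMap.ext
  intro a
  show (f ^ p) a = 0
  induction a using res_induction φ with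
  | one =>
    rw [← mul_pow_sub_one hp.out.ne_zero f, conv_one, h, zero_mul]
  | zero => exact map_zero _
  | add a c ha hc =>
    show (f ^ p).ofConv (a + c) = 0
    rw [map_add]
    show (f ^ p) a + (f ^ p) c = 0
    rw [ha, hc, add_zero]
  | smul r a ha =>
    show (f ^ p).ofConv (r • a) = 0
    rw [map_smul]
    show r • (f ^ p) a = 0
    rw [ha, smul_zero]
  | mul a x ha =>
    rw [← translD_apply, Derivation.leibniz_pow, ← Nat.cast_smul_eq_nsmul R, CharP.cast_eq_zero, zero_smul]
    rfl

end Groth.Agent.PBW
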